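import Groth.Agent.CancelLib.Ring
import Groth.Agent.CILib.KoszulScheme
import Groth.Agent.PerfMorLib.Scheme

/-!
# Koszul morphisms cancel along perfect morphisms
-/

set_option autoImplicit false
set_option linter.style.haveILetI false
set_option backward.isDefEq.respectTransparency false

universe u

open CategoryTheory AlgebraicGeometry
attribute [local instance] HasDerivedCategory.standard

noncomputable section

namespace Groth.Agent.CancelLib

open CILib

theorem lciMorP_of_affine_comp_ι {Y S : Scheme.{u}} (g : Y ⟶ S) {W : S.Opens} (hW : IsAffineOpen W) {D : Y.Opens}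
    (hD : IsAffineOpen D) (e : D ≤ g ⁻¹ᵁ W) (h : IsLCIHom (g.appLE W D e).hom) : LCIMorP (D.ι ≫ g) := by
  haveI : IsAffine W.toScheme := hW
  haveI : IsAffine D.toScheme := hD
  have h1 : LCIMorP (g.resLE W D e) := by
    rw [HasRingHomProperty.iff_of_isAffine (P := LCIMorP), Scheme.Hom.appTop, Scheme.Hom.resLE_app_top,
      CommRingCat.hom_comp, CommRingCat.hom_comp]
    exact isLCIHom_stableUnderComposition _ _
      (isLCIHom_of_bijective _ (ConcreteCategory.bijective_of_isIso W.topIso.hom))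
      (isLCIHom_stableUnderComposition _ _ h
        (isLCIHom_of_bijective _ (ConcreteCategory.bijective_of_isIso D.topIso.inv)))
  rw [← g.resLE_comp_ι e]
  exact LCIMorP.comp_mem _ _ h1 (lciMorP_of_smooth _)

theorem koszul_cancel {X Y S : Scheme.{u}} (f : X ⟶ Y) (g : Y ⟶ S) [IsLocallyNoetherian S] [LocallyOfFiniteType g]
    (hf : MoreMor.IsPerfectMor f) (h : ∀ x : X, Synt.IsKoszulAt (f ≫ g) x) :
    (∀ x : X, Synt.IsKoszulAt f x) ∧ ∀ x : X, Synt.IsKoszulAt g (f x) := by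
  have hfg := lciMorP_of_forall_isKoszulAt _ h
  haveI : LocallyOfFiniteType (f ≫ g) := by
    rw [HasRingHomProperty.iff_appLE (P := @LocallyOfFiniteType)]
    exact fun W U e => ((lciMorP_iff _).1 hfg U W e).1
  haveI : LocallyOfFiniteType f := locallyOfFiniteType_of_comp f g
  have key : ∀ x : X, ∃ (W : S.affineOpens) (V : Y.affineOpens) (U : X.affineOpens) (eV : V.1 ≤ g ⁻¹ᵁ W.1)
      (eU : U.1 ≤ f ⁻¹ᵁ V.1) (hx : x ∈ U.1), IsLCIHom (f.appLE V.1 U.1 eU).hom ∧
        ∃ a : Γ(Y, V.1), f x ∈ Y.basicOpen a ∧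
          LCIMorP ((Y.basicOpen a).ι ≫ g) := by
    intro x
    obtain ⟨_, ⟨W : S.Opens, hW, rfl⟩, hsW, -⟩ :=
      S.isBasis_affineOpens.exists_subset_of_mem_open (Set.mem_univ (g (f x))) isOpen_univ
    obtain ⟨_, ⟨V : Y.Opens, hV, rfl⟩, hyV, eV : V ≤ g ⁻¹ᵁ W⟩ :=
      Y.isBasis_affineOpens.exists_subset_of_mem_open (show f x ∈ g ⁻¹ᵁ W from hsW) (g ⁻¹ᵁ W).2
    obtain ⟨_, ⟨U : X.Opens, hU, rfl⟩, hxU, eU : U ≤ f ⁻¹ᵁ V⟩ :=
      X.isBasis_affineOpens.exists_subset_of_mem_open (show x ∈ f ⁻¹ᵁ V from hyV) (f ⁻¹ᵁ V).2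
    haveI : IsNoetherianRing Γ(S, W) := IsLocallyNoetherian.component_noetherian ⟨W, hW⟩
    letI algRA : Algebra Γ(S, W) Γ(Y, V) := (g.appLE W V eV).hom.toAlgebra
    letI algAB : Algebra Γ(Y, V) Γ(X, U) := (f.appLE V U eU).hom.toAlgebra
    letI algRB : Algebra Γ(S, W) Γ(X, U) := ((f ≫ g).appLE W U (fun z hz => eV (eU hz))).hom.toAlgebra
    haveI : IsScalarTower Γ(S, W) Γ(Y, V) Γ(X, U) := .of_algebraMap_eq fun r => by
      show (f ≫ g).appLE W U _ r = f.appLE V U eU (g.appLE W V eV r)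
      rw [← CommRingCat.comp_apply, Scheme.Hom.appLE_comp_appLE]
    haveI : Algebra.FiniteType Γ(S, W) Γ(Y, V) := g.finiteType_appLE hW hV eV
    haveI : Algebra.FiniteType Γ(Y, V) Γ(X, U) := f.finiteType_appLE hV hU eU
    have hlci : LCI.IsLCI Γ(S, W) Γ(X, U) := (lciMorP_iff _).1 hfg ⟨U, hU⟩ ⟨W, hW⟩ (fun z hz => eV (eU hz))
    have htd : PerfMorLib.TD (algebraMap Γ(Y, V) Γ(X, U)) :=
      (PerfMorLib.isPerfectHom_iff.1 (hf U V hU hV eU)).2
    obtain ⟨h1, h2⟩ := lci_cancel hlci htd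
    obtain ⟨a, ha, hL⟩ := h2 (hU.primeIdealOf ⟨x, hxU⟩).asIdeal inferInstance
    refine ⟨⟨W, hW⟩, ⟨V, hV⟩, ⟨U, hU⟩, eV, eU, hxU, h1, a, ?_, ?_⟩
    · have h3 : (hV.primeIdealOf ⟨f x, hyV⟩).asIdeal =
          (hU.primeIdealOf ⟨x, hxU⟩).asIdeal.comap (algebraMap Γ(Y, V) Γ(X, U)) :=
        congrArg PrimeSpectrum.asIdeal (IsAffineOpen.comap_primeIdealOf_appLE V hV U hU eU hxU).symm
      rw [Y.mem_basicOpen a (f x) hyV]
      letI : Algebra Γ(Y, V) (Y.presheaf.stalk (f x)) := TopCat.Presheaf.algebra_section_stalk Y.presheaf ⟨f x, hyV⟩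
      haveI := hV.isLocalization_stalk ⟨f x, hyV⟩
      exact IsLocalization.map_units (Y.presheaf.stalk (f x))
        (⟨a, fun hm => ha (h3.le hm)⟩ : (hV.primeIdealOf ⟨f x, hyV⟩).asIdeal.primeCompl)
    · have eD : Y.basicOpen a ≤ g ⁻¹ᵁ W := (Y.basicOpen_le a).trans eV
      refine lciMorP_of_affine_comp_ι g hW (hV.basicOpen a) eD ?_
      letI : Algebra Γ(Y, V) Γ(Y, Y.basicOpen a) := (Y.presheaf.map (homOfLE (Y.basicOpen_le a)).op).hom.toAlgebra
      haveI : IsLocalization.Away a Γ(Y, Y.basicOpen a) := hV.isLocalization_basicOpen a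
      let E := IsLocalization.algEquiv (Submonoid.powers a) (Localization.Away a) Γ(Y, Y.basicOpen a)
      have h4 : (g.appLE W (Y.basicOpen a) eD).hom =
          E.toRingEquiv.toRingHom.comp (algebraMap Γ(S, W) (Localization.Away a)) := by
        refine RingHom.ext fun r => ?_
        show g.appLE W (Y.basicOpen a) eD r = E (algebraMap Γ(S, W) (Localization.Away a) r)
        rw [IsScalarTower.algebraMap_apply Γ(S, W) Γ(Y, V) (Localization.Away a), E.commutes]
        show g.appLE W (Y.basicOpen a) eD r = Y.presheaf.map (homOfLE (Y.basicOpen_le a)).op (g.appLE W V eV r)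
        rw [← CommRingCat.comp_apply, Scheme.Hom.appLE_map]
      rw [h4]
      exact isLCIHom_stableUnderComposition _ _ (isLCIHom_algebraMap.2 hL) (isLCIHom_of_bijective _ E.bijective)
  refine ⟨fun x => isKoszulAt_of_lciMorP f ((lciMorP_iff_exists f).2 fun x => ?_) x, fun x => ?_⟩
  · obtain ⟨W, V, U, eV, eU, hx, h1, -⟩ := key x
    exact ⟨V, U, hx, eU, h1⟩
  · obtain ⟨W, V, U, eV, eU, hx, -, a, ha, hL⟩ := key x
    exact (lciMorP_restrict_iff_isKoszulAt g (f x)).2 ⟨_, ha, hL⟩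

end Groth.Agent.CancelLib

end
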