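import Groth.Agent.CancelLib.Local
import Groth.Agent.FerrVasc.Basic

/-!
# Regular ideals descend along flat local maps
-/

set_option autoImplicit false
set_option linter.style.haveILetI false
set_option backward.isDefEq.respectTransparency false

universe u

open IsLocalRing RingTheory.Sequence
open scoped TensorProduct

noncomputable section

namespace Groth.Agent.CancelLib

/-- Membership in `m I` descends along flat local maps. -/
theorem mem_mul_of_map_mem {O O' : Type u} [CommRing O] [CommRing O'] [IsLocalRing O] [IsLocalRing O'] [Algebra O O']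
    [Module.Flat O O'] [IsLocalHom (algebraMap O O')] (I : Ideal O) {x : O} (hx : x ∈ I)
    (h : algebraMap O O' x ∈ maximalIdeal O' * I.map (algebraMap O O')) : x ∈ maximalIdeal O * I := by
  classical
  by_contra hcon
  letI := Ideal.Quotient.field (maximalIdeal O)
  let k := O ⧸ maximalIdeal O
  let M := I ⧸ (maximalIdeal O • ⊤ : Submodule O I)
  letI : Module k M := Module.IsTorsionBySet.module
    (Module.isTorsionBySet_quotient_ideal_smul I (maximalIdeal O))
  have hne : (Submodule.Quotient.mk ⟨x, hx⟩ : M) ≠ 0 := fun h0 => by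
    rw [Submodule.Quotient.mk_eq_zero] at h0
    have := Submodule.mem_map_of_mem (f := I.subtype) h0
    rw [Submodule.map_smul'', Submodule.map_top, Submodule.range_subtype, smul_eq_mul] at this
    exact hcon this
  obtain ⟨l, hl⟩ : ∃ l : M →ₗ[k] k, l (Submodule.Quotient.mk ⟨x, hx⟩) ≠ 0 := by
    by_contra! hall
    exact hne ((Module.forall_dual_apply_eq_zero_iff k _).1 hall)
  let ι : k →+* ResidueField O' := Ideal.Quotient.lift (maximalIdeal O)
    ((IsLocalRing.residue O').comp (algebraMap O O')) fun a ha =>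
      Ideal.Quotient.eq_zero_iff_mem.2 (map_nonunit (algebraMap O O') a ha)
  letI : Module O' (ResidueField O') := inferInstance
  let f : I →ₗ[O] ResidueField O' :=
    { toFun := fun z => ι (l (Submodule.Quotient.mk z))
      map_add' := fun a b => by rw [Submodule.Quotient.mk_add, map_add, map_add]
      map_smul' := fun c a => by
        rw [Submodule.Quotient.mk_smul, show (c • Submodule.Quotient.mk a : M) =
          (Ideal.Quotient.mk (maximalIdeal O) c) • (Submodule.Quotient.mk a : M) from rfl, map_smul, smul_eq_mul,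
          map_mul, RingHom.id_apply, Algebra.smul_def]
        rfl }
  let Λ : O' ⊗[O] I →ₗ[O'] ResidueField O' := f.liftBaseChange O'
  have hΛ : ∀ z ∈ (maximalIdeal O' • ⊤ : Submodule O' (O' ⊗[O] I)), Λ z = 0 := fun z hz => by
    refine Submodule.smul_induction_on hz (fun a ha w _ => ?_) (fun u v hu hv => by rw [map_add, hu, hv, add_zero])
    rw [map_smul, Algebra.smul_def, show algebraMap O' (ResidueField O') a = 0 from
      Ideal.Quotient.eq_zero_iff_mem.2 ha, zero_mul]
  let e : O' ⊗[O] I ≃ₗ[O'] I.map (algebraMap O O') :=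
    (LinearEquiv.ofInjective _ (FerrVasc.baseMul_injective O' I)).trans
      (LinearEquiv.ofEq _ _ (FerrVasc.range_baseMul O' I))
  have he : ((e (1 ⊗ₜ ⟨x, hx⟩)) : O') = algebraMap O O' x := by
    show FerrVasc.baseMul O' I (1 ⊗ₜ ⟨x, hx⟩) = _
    rw [FerrVasc.baseMul_tmul]
    simp [Algebra.smul_def]
  have hmem : (1 : O') ⊗ₜ[O] (⟨x, hx⟩ : I) ∈ (maximalIdeal O' • ⊤ : Submodule O' (O' ⊗[O] I)) := by
    have h1 : e (1 ⊗ₜ ⟨x, hx⟩) ∈ (maximalIdeal O' • ⊤ : Submodule O' (I.map (algebraMap O O'))) := by
      have h2 : ((e (1 ⊗ₜ ⟨x, hx⟩)) : O') ∈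
          (maximalIdeal O' • ⊤ : Submodule O' (I.map (algebraMap O O'))).map (I.map (algebraMap O O')).subtype := by
        rw [Submodule.map_smul'', Submodule.map_top, Submodule.range_subtype, smul_eq_mul, he]
        exact h
      obtain ⟨w, hw, hwe⟩ := h2
      rwa [← Subtype.ext hwe]
    have h3 := Submodule.mem_map_of_mem (f := e.symm.toLinearMap) h1
    rw [Submodule.map_smul'', Submodule.map_top, LinearEquiv.range, LinearEquiv.coe_coe, e.symm_apply_apply] at h3
    exact h3
  have h4 := hΛ _ hmem
  rw [LinearMap.liftBaseChange_tmul, one_smul] at h4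
  exact hl (ι.injective (by rw [map_zero]; exact h4))

/-- A quotient by a flat extension is flat. -/
theorem flat_quotient_map {R R' : Type u} [CommRing R] [CommRing R'] [Algebra R R'] [Module.Flat R R'] (I : Ideal R) :
    Module.Flat (R ⧸ I) (R' ⧸ I.map (algebraMap R R')) := by
  let e₁ : (R' ⧸ I.map (algebraMap R R')) ≃ₐ[R'] R' ⊗[R] (R ⧸ I) :=
    Algebra.TensorProduct.quotIdealMapEquivTensorQuot R' I
  let e : (R ⧸ I) ⊗[R] R' ≃+* (R' ⧸ I.map (algebraMap R R')) :=
    (Algebra.TensorProduct.comm R (R ⧸ I) R').toRingEquiv.trans e₁.symm.toRingEquiv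
  have he : ∀ x : R ⧸ I, e (algebraMap (R ⧸ I) ((R ⧸ I) ⊗[R] R') x) = algebraMap (R ⧸ I) _ x := by
    intro x
    obtain ⟨a, rfl⟩ := Ideal.Quotient.mk_surjective x
    show e₁.symm ((Algebra.TensorProduct.comm R (R ⧸ I) R') (Ideal.Quotient.mk I a ⊗ₜ[R] (1 : R'))) = _
    rw [Algebra.TensorProduct.comm_tmul, show (1 : R') ⊗ₜ[R] Ideal.Quotient.mk I a =
      algebraMap R (R' ⊗[R] (R ⧸ I)) a from (Algebra.TensorProduct.includeRight.commutes a),
      IsScalarTower.algebraMap_apply R R' (R' ⊗[R] (R ⧸ I)), e₁.symm.commutes]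
    rfl
  exact Module.Flat.of_linearEquiv (AlgEquiv.ofRingEquiv (f := e) he).toLinearEquiv.symm

theorem isRegularIdeal_of_flat_aux : ∀ (k : ℕ) {O O' : Type u} [CommRing O] [CommRing O'] [IsLocalRing O]
    [IsLocalRing O'] [IsNoetherianRing O] [IsNoetherianRing O'] [Algebra O O'] [Module.Flat O O']
    [IsLocalHom (algebraMap O O')] (b : Fin k → O) {I : Ideal O}, I = Ideal.span (Set.range b) → I ≠ ⊤ →
    CInt.IsRegularIdeal (I.map (algebraMap O O')) → CInt.IsRegularIdeal I := by
  intro k
  induction k with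
  | zero =>
    intro O O' _ _ _ _ _ _ _ _ _ b I hI _ _
    rw [hI, Set.range_eq_empty, Ideal.span_empty]
    exact isRegularIdeal_bot
  | succ k ih =>
    intro O O' _ _ _ _ _ _ _ _ _ b I hI htop h
    by_cases hall : ∀ i, b i ∈ maximalIdeal O * I
    · have hle : I ≤ maximalIdeal O * I := hI.trans_le (Ideal.span_le.2 (by rintro _ ⟨i, rfl⟩; exact hall i))
      rw [show I = ⊥ from Submodule.eq_bot_of_le_smul_of_le_jacobson_bot _ I (IsNoetherian.noetherian I) hle
        (maximalIdeal_le_jacobson ⊥)]
      exact isRegularIdeal_bot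
    push Not at hall
    obtain ⟨j, hj⟩ := hall
    set x := b j
    haveI : Module.FaithfullyFlat O O' := Module.FaithfullyFlat.of_flat_of_isLocalHom
    let a := algebraMap O O'
    have hxI : x ∈ I := hI ▸ Ideal.subset_span ⟨j, rfl⟩
    have hx' : a x ∉ maximalIdeal O' * I.map a := fun hh => hj (mem_mul_of_map_mem I hxI hh)
    have hKm : I.map a ≤ maximalIdeal O' :=
      (Ideal.map_mono (le_maximalIdeal htop)).trans (IsLocalRing.map_maximalIdeal_le a)
    have hquot := RegIdealLib.isRegularIdeal_map_quot_singleton hKm h (Ideal.mem_map_of_mem a hxI) hx'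
    have hX : Ideal.span {x} ≤ I := (Ideal.span_singleton_le_iff_mem _).2 hxI
    have hX' : (Ideal.span {x}).map a = Ideal.span {a x} := by rw [Ideal.map_span, Set.image_singleton]
    have hregX' : CInt.IsRegularIdeal (Ideal.span {a x}) :=
      RegIdealLib.isRegularIdeal_of_quotient (hX' ▸ Ideal.map_mono hX) hKm h hquot
    -- `x` is a non-zero-divisor
    have hxreg : CInt.IsRegularIdeal (Ideal.span {x}) := by
      obtain ⟨rs, hrs, hrsx⟩ := hregX'
      have hne : a x ≠ 0 := fun h0 => hx' (h0 ▸ zero_mem _)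
      have hnzd : ∀ y, a x * y = 0 → y = 0 := by
        intro y hy
        match rs, hrs, hrsx with
        | [], _, hrsx =>
          rw [Ideal.ofList_nil, eq_comm, Ideal.span_singleton_eq_bot] at hrsx
          exact absurd hrsx hne
        | r :: t, hrs, hrsx =>
          obtain ⟨hr, -⟩ := (isWeaklyRegular_cons_iff O' r t).mp hrs.toIsWeaklyRegular
          have hrmem : r ∈ Ideal.span {a x} := hrsx.le (Ideal.subset_span (by simp))
          obtain ⟨c, hc⟩ := Ideal.mem_span_singleton'.1 hrmem
          refine hr (show r • y = r • (0 : O') from ?_)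
          rw [smul_eq_mul, smul_eq_mul, mul_zero, ← hc, mul_assoc, hy, mul_zero]
      refine ⟨[x], ⟨?_, ?_⟩, by rw [Ideal.ofList_singleton]⟩
      · refine IsWeaklyRegular.cons ?_ (IsWeaklyRegular.nil O _)
        refine isSMulRegular_iff_right_eq_zero_of_smul.2 fun y hy => ?_
        refine (FaithfulSMul.algebraMap_injective O O') ?_
        rw [map_zero]
        refine hnzd _ ?_
        rw [← map_mul, ← smul_eq_mul, hy, map_zero]
      · rw [smul_eq_mul, Ideal.mul_top, Ideal.ofList_singleton]
        exact fun h0 => (maximalIdeal.isMaximal O).ne_top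
          (top_le_iff.1 (h0.trans_le (hX.trans (le_maximalIdeal htop))))
    let X := Ideal.span {x}
    haveI : IsLocalRing (O ⧸ X) := RegLocal.isLocalRing_quot (ne_top_of_le_ne_top htop hX)
    haveI : IsLocalRing (O' ⧸ X.map a) :=
      RegLocal.isLocalRing_quot (ne_top_of_le_ne_top (maximalIdeal.isMaximal O').ne_top ((Ideal.map_mono hX).trans hKm))
    haveI : Module.Flat (O ⧸ X) (O' ⧸ X.map a) := flat_quotient_map X
    haveI : IsLocalHom (algebraMap (O ⧸ X) (O' ⧸ X.map a)) := ⟨fun y hy => by
      obtain ⟨y, rfl⟩ := Ideal.Quotient.mk_surjective y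
      have h1 : IsUnit (Ideal.Quotient.mk (X.map a) (a y)) := hy
      exact ((isUnit_map_iff a y).1 ((@isUnit_map_iff _ _ _ _ _ _ _ (Ideal.Quotient.mk (X.map a))
        (IsLocalHom.of_surjective _ Ideal.Quotient.mk_surjective) _).1 h1)).map _⟩
    set π := Ideal.Quotient.mk X
    have hgen : I.map π = Ideal.span (Set.range fun i => π (b (j.succAbove i))) := by
      rw [hI, Ideal.map_span]
      refine le_antisymm (Ideal.span_le.2 ?_) (Ideal.span_mono ?_)
      · rintro _ ⟨_, ⟨i, rfl⟩, rfl⟩
        rcases eq_or_ne i j with rfl | hi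
        · rw [show π (b i) = 0 from Ideal.Quotient.eq_zero_iff_mem.2 (Ideal.mem_span_singleton_self x)]
          exact zero_mem _
        · obtain ⟨l, rfl⟩ := Fin.exists_succAbove_eq hi
          exact Ideal.subset_span ⟨l, rfl⟩
      · rintro _ ⟨l, rfl⟩
        exact ⟨_, ⟨_, rfl⟩, rfl⟩
    have hrec : CInt.IsRegularIdeal (I.map π) := by
      refine ih (O' := O' ⧸ X.map a) (fun i => π (b (j.succAbove i))) hgen ?_ ?_
      · intro h0
        refine htop ?_
        rw [← Ideal.comap_top (f := π), ← h0, Ideal.comap_map_mk hX]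
      · have h2 : (I.map π).map (algebraMap (O ⧸ X) (O' ⧸ X.map a)) =
            (I.map a).map (Ideal.Quotient.mk (X.map a)) := by
          rw [Ideal.map_map, Ideal.map_map]
          rfl
        have h3 := RegIdealLib.isRegularIdeal_of_ringEquiv (Ideal.quotEquivOfEq hX'.symm) hquot
        rw [h2]
        rw [Ideal.map_map] at h3
        exact h3
    exact RegIdealLib.isRegularIdeal_of_extension hX (le_maximalIdeal htop) hxreg hrec

/-- Regular ideals descend along flat maps of noetherian local rings. -/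
theorem isRegularIdeal_of_flat {O O' : Type u} [CommRing O] [CommRing O'] [IsLocalRing O] [IsLocalRing O']
    [IsNoetherianRing O] [IsNoetherianRing O'] [Algebra O O'] [Module.Flat O O'] [IsLocalHom (algebraMap O O')]
    {I : Ideal O} (hI : I ≠ ⊤) (h : CInt.IsRegularIdeal (I.map (algebraMap O O'))) : CInt.IsRegularIdeal I := by
  obtain ⟨k, b, hb⟩ := Submodule.fg_iff_exists_fin_generating_family.1 (IsNoetherian.noetherian I)
  exact isRegularIdeal_of_flat_aux k b hb.symm hI h

end Groth.Agent.CancelLib

end
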