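import Groth.Agent.CancelLib.Scheme
import Groth.Agent.CILib.KoszulLCI
import Groth.Agent.CancelLib.Descent
import Groth.Agent.CMGraded.Glue
import Groth.Agent.FerrVasc.Basic
import Groth.Agent.PerfMorLib.Poly

/-!
# Local complete intersections cancel along ring maps of finite tor dimension
-/

set_option autoImplicit false
set_option linter.style.haveILetI false
set_option backward.isDefEq.respectTransparency false

universe u

open CategoryTheory IsLocalRing RingTheory.Sequence MvPolynomial
attribute [local instance] HasDerivedCategory.standard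

noncomputable section

namespace Groth.Agent.CancelLib

/-- A regular ideal of a noetherian local ring is Koszul regular. -/
theorem isKoszulRegularIdeal_of_isRegularIdeal {O : Type u} [CommRing O] {I : Ideal O}
    (h : CInt.IsRegularIdeal I) : LCI.IsKoszulRegularIdeal I := by
  obtain ⟨rs, hrs, rfl⟩ := h
  exact CILib.isKoszulRegularIdeal_of_nearGen fun p _ _ =>
    ⟨1, (Ideal.ne_top_iff_one p).1 (Ideal.IsPrime.ne_top ‹_›), rs, fun L _ _ _ _ =>
      ⟨RelDivLib.isKoszulRegularSeq_flat (CILib.isKoszulRegularSeq_of_isWeaklyRegular rs hrs.toIsWeaklyRegular),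
        Ideal.map_ofList _ _⟩⟩

/-- Near a prime, a Koszul regular ideal is regular on the local ring. -/
theorem isRegularIdeal_map_of_koszul {T : Type u} [CommRing T] [IsNoetherianRing T] {I : Ideal T}
    (hI : LCI.IsKoszulRegularIdeal I) (p : Ideal T) [p.IsPrime] (hp : I ≤ p) :
    CInt.IsRegularIdeal (I.map (algebraMap T (Localization.AtPrime p))) := by
  obtain ⟨g, hg, l, hlI, hl⟩ := CILib.exists_nearGen hI p hp
  haveI : Module.Flat T (Localization.AtPrime p) := IsLocalization.flat _ p.primeCompl
  obtain ⟨h₁, h₂⟩ := hl (Localization.AtPrime p) (IsLocalization.map_units _ (⟨g, hg⟩ : p.primeCompl))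
  set L := l.map (algebraMap T (Localization.AtPrime p))
  have hle : Ideal.span (Set.range L.get) ≤ maximalIdeal (Localization.AtPrime p) := by
    refine Ideal.span_le.2 ?_
    rintro _ ⟨j, rfl⟩
    obtain ⟨a, ha, hja⟩ := List.mem_map.1 (List.get_mem L j)
    rw [← hja]
    exact (IsLocalization.AtPrime.to_map_mem_maximal_iff _ p a).2 (hp (hlI a ha))
  have hofn : List.ofFn L.get = L := List.ofFn_get L
  refine ⟨L, ⟨?_, ?_⟩, h₂.symm⟩
  · rw [← hofn]
    exact QRegLib.isWeaklyRegular_of_isQuasiRegular L.get (hle.trans (maximalIdeal_le_jacobson ⊥))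
      (isQuasiRegular_of_seq .koszul h₁)
  · rw [smul_eq_mul, Ideal.mul_top]
    intro h
    refine (maximalIdeal.isMaximal (Localization.AtPrime p)).ne_top (top_le_iff.1 ?_)
    refine h.trans_le (le_trans ?_ hle)
    rw [← RegIdealLib.ofList_ofFn, hofn]

/-- Spreading out regularity from a prime. -/
theorem exists_nearGen_of_isRegularIdeal {T : Type u} [CommRing T] [IsNoetherianRing T] (I : Ideal T) (p : Ideal T)
    [p.IsPrime] (hp : I ≤ p) (h : CInt.IsRegularIdeal (I.map (algebraMap T (Localization.AtPrime p)))) :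
    ∃ g, g ∉ p ∧ LCI.IsKoszulRegularIdeal (I.map (algebraMap T (Localization.Away g))) ∧
      ∃ l : List T, CILib.NearGen I g l := by
  obtain ⟨rs, hrs, hrsI⟩ := h
  obtain ⟨f, hf, hfspan⟩ := RegIdealLib.exists_numerators (R := T) p.primeCompl hrs
  obtain ⟨g, hg, hreg, hgen⟩ := FerrVasc.exists_regular_away p I hp f (hfspan.trans hrsI) hf.toIsWeaklyRegular
  refine ⟨g, hg, isKoszulRegularIdeal_of_isRegularIdeal ⟨_, hreg, hgen⟩, f, fun L _ _ _ hu => ?_⟩
  letI : Algebra (Localization.Away g) L := (IsLocalization.Away.lift g hu).toAlgebra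
  haveI : IsScalarTower T (Localization.Away g) L :=
    .of_algebraMap_eq fun x => (IsLocalization.Away.lift_eq g hu x).symm
  haveI : Module.Flat (Localization.Away g) L :=
    (Module.flat_iff_of_isLocalization (Localization.Away g) (Submonoid.powers g) L).2 inferInstance
  have hcomp : f.map (algebraMap T L) =
      (f.map (algebraMap T (Localization.Away g))).map (algebraMap (Localization.Away g) L) := by
    rw [List.map_map]
    exact List.map_congr_left fun x _ => IsScalarTower.algebraMap_apply T (Localization.Away g) L x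
  rw [hcomp]
  refine ⟨RelDivLib.isKoszulRegularSeq_flat
    (CILib.isKoszulRegularSeq_of_isWeaklyRegular _ hreg.toIsWeaklyRegular), ?_⟩
  rw [IsScalarTower.algebraMap_eq T (Localization.Away g) L, ← Ideal.map_map, ← hgen, Ideal.map_ofList]

theorem cancel_at {T A' B : Type u} [CommRing T] [IsNoetherianRing T] [CommRing A'] [CommRing B] (σ : T →+* A')
    (τ : A' →+* B) (hσ : Function.Surjective σ) (hτ : Function.Surjective τ)
    (hK : LCI.IsKoszulRegularIdeal (RingHom.ker (τ.comp σ))) (htd : PerfMorLib.TD τ) (q : Ideal B) [q.IsPrime] :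
    CInt.IsRegularIdeal ((RingHom.ker σ).map (algebraMap T (Localization.AtPrime ((q.comap τ).comap σ)))) ∧
      CInt.IsRegularIdeal ((RingHom.ker τ).map (algebraMap A' (Localization.AtPrime (q.comap τ)))) := by
  let σ' := Localization.localRingHom ((q.comap τ).comap σ) (q.comap τ) σ rfl
  let τ' := Localization.localRingHom (q.comap τ) q τ rfl
  have hcomp : τ'.comp σ' = Localization.localRingHom ((q.comap τ).comap σ) q (τ.comp σ) rfl :=
    (Localization.localRingHom_comp ((q.comap τ).comap σ) (q.comap τ) q σ rfl τ rfl).symm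
  have hreg : CInt.IsRegularIdeal (RingHom.ker (τ'.comp σ')) := by
    rw [hcomp, CMGraded.ker_localRingHom (φ := τ.comp σ) (hτ.comp hσ)]
    exact isRegularIdeal_map_of_koszul hK _ fun x hx => by
      show τ (σ x) ∈ q
      rw [show τ (σ x) = 0 from hx]; exact zero_mem _
  have htd' : PerfMorLib.TD τ' := by
    rw [PerfMorLib.td_localRingHom_iff]
    haveI : Module.Flat B (Localization.AtPrime q) := IsLocalization.flat _ q.primeCompl
    exact htd.comp (PerfMorLib.td_of_flat ((RingHom.flat_algebraMap_iff).mpr inferInstance))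
  obtain ⟨hJ, hI⟩ := isRegularIdeal_cancel_of_td σ' τ' (CMGraded.localRingHom_surjective hσ _ _ rfl)
    (CMGraded.localRingHom_surjective hτ _ _ rfl) hreg htd'
  rw [CMGraded.ker_localRingHom hσ] at hJ
  rw [CMGraded.ker_localRingHom hτ] at hI
  exact ⟨hJ, hI⟩

/-- Regularity at a prime descends along flat ring maps. -/
theorem isRegularIdeal_localization_of_flat {P P' : Type u} [CommRing P] [IsNoetherianRing P] [CommRing P'] [IsNoetherianRing P']
    (φ : P →+* P') (hφ : φ.Flat) (J : Ideal P) (Q : Ideal P') [Q.IsPrime] (hJQ : J ≤ Q.comap φ)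
    (h : CInt.IsRegularIdeal ((J.map φ).map (algebraMap P' (Localization.AtPrime Q)))) :
    CInt.IsRegularIdeal (J.map (algebraMap P (Localization.AtPrime (Q.comap φ)))) := by
  letI : Algebra P P' := φ.toAlgebra
  haveI : Module.Flat P P' := hφ
  let Q0 := Q.comap φ
  letI : Algebra (Localization.AtPrime Q0) (Localization.AtPrime Q) :=
    (Localization.localRingHom Q0 Q φ rfl).toAlgebra
  haveI : IsLocalHom (algebraMap (Localization.AtPrime Q0) (Localization.AtPrime Q)) :=
    Localization.isLocalHom_localRingHom Q0 Q φ rfl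
  haveI : IsScalarTower P (Localization.AtPrime Q0) (Localization.AtPrime Q) :=
    .of_algebraMap_eq fun x => (IsScalarTower.algebraMap_apply P P' (Localization.AtPrime Q) x).trans
      (Localization.localRingHom_to_map Q0 Q φ rfl x).symm
  haveI : Module.Flat P' (Localization.AtPrime Q) := IsLocalization.flat _ Q.primeCompl
  haveI : Module.Flat P (Localization.AtPrime Q) := Module.Flat.trans P P' _
  haveI : Module.Flat (Localization.AtPrime Q0) (Localization.AtPrime Q) :=
    (Module.flat_iff_of_isLocalization (Localization.AtPrime Q0) Q0.primeCompl _).2 inferInstance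
  refine isRegularIdeal_of_flat (O' := Localization.AtPrime Q) ?_ ?_
  · refine ne_top_of_le_ne_top (maximalIdeal.isMaximal (Localization.AtPrime Q0)).ne_top ?_
    rw [Ideal.map_le_iff_le_comap]
    intro x hx
    rw [Ideal.mem_comap, IsLocalization.AtPrime.to_map_mem_maximal_iff _ Q0]
    exact hJQ hx
  · rw [Ideal.map_map] at h ⊢
    rw [← IsScalarTower.algebraMap_eq, IsScalarTower.algebraMap_eq P P' (Localization.AtPrime Q)]
    exact h

theorem lci_cancel {R A B : Type u} [CommRing R] [IsNoetherianRing R] [CommRing A] [CommRing B] [Algebra R A]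
    [Algebra A B] [Algebra R B] [IsScalarTower R A B] [Algebra.FiniteType R A] [Algebra.FiniteType A B]
    (h : LCI.IsLCI R B) (htd : PerfMorLib.TD (algebraMap A B)) :
    LCI.IsLCI A B ∧ ∀ q : Ideal B, q.IsPrime →
      ∃ a : A, algebraMap A B a ∉ q ∧ LCI.IsLCI R (Localization.Away a) := by
  classical
  obtain ⟨n, α, hα⟩ := Algebra.FiniteType.iff_quotient_mvPolynomial''.mp ‹Algebra.FiniteType R A›
  obtain ⟨m, β, hβ⟩ := Algebra.FiniteType.iff_quotient_mvPolynomial''.mp ‹Algebra.FiniteType A B›
  let P := MvPolynomial (Fin n) R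
  let P' := MvPolynomial (Fin m) P
  let A' := MvPolynomial (Fin m) A
  let σ : P' →+* A' := MvPolynomial.map α.toRingHom
  have hσ : Function.Surjective σ := MvPolynomial.map_surjective _ hα
  have hkσ : RingHom.ker σ = (RingHom.ker α.toRingHom).map (MvPolynomial.C : P →+* P') :=
    MvPolynomial.ker_map α.toRingHom
  let τ : A' →+* B := β.toRingHom
  have hτ : Function.Surjective τ := hβ
  let γ : P' →ₐ[R] B :=
    { τ.comp σ with
      commutes' := fun r => by
        change τ (σ (MvPolynomial.C (algebraMap R P r))) = _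
        rw [MvPolynomial.map_C, show α.toRingHom (algebraMap R P r) = algebraMap R A r from α.commutes r,
          IsScalarTower.algebraMap_apply R A B]
        exact β.commutes _ }
  let e := MvPolynomial.sumAlgEquiv R (Fin m) (Fin n)
  have hK : LCI.IsKoszulRegularIdeal (RingHom.ker (τ.comp σ)) := by
    have h1 := CILib.isKoszulRegularIdeal_ker_of_isLCI_fintype h (γ.comp e.toAlgHom)
      ((hτ.comp hσ).comp e.surjective)
    have h2 := CILib.isKoszulRegularIdeal_comap_equiv e.symm.toRingEquiv h1
    convert h2 using 1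
    ext x
    show τ (σ x) = 0 ↔ τ (σ (e (e.symm x))) = 0
    rw [e.apply_symm_apply]
  have htdτ : PerfMorLib.TD τ := PerfMorLib.td_mvPolynomial_fin m (by
    rw [show τ.comp MvPolynomial.C = algebraMap A B from β.comp_algebraMap]; exact htd)
  haveI : IsNoetherianRing A := Algebra.FiniteType.isNoetherianRing R A
  haveI : IsNoetherianRing A' := inferInstanceAs (IsNoetherianRing (MvPolynomial (Fin m) A))
  haveI : IsNoetherianRing P' := inferInstanceAs (IsNoetherianRing (MvPolynomial (Fin m) (MvPolynomial (Fin n) R)))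
  have key : ∀ (q : Ideal B) [q.IsPrime] (X : Ideal P) [X.IsPrime],
      X = ((q.comap τ).comap σ).comap MvPolynomial.C →
      CInt.IsRegularIdeal ((RingHom.ker α.toRingHom).map (algebraMap P (Localization.AtPrime X))) ∧
      CInt.IsRegularIdeal ((RingHom.ker τ).map (algebraMap A' (Localization.AtPrime (q.comap τ)))) := by
    intro q _ X _ hX
    subst hX
    let Q := (q.comap τ).comap σ
    obtain ⟨hJ, hI⟩ := cancel_at σ τ hσ hτ hK htdτ q
    refine ⟨?_, hI⟩
    rw [hkσ] at hJ
    refine isRegularIdeal_localization_of_flat (MvPolynomial.C : P →+* P') ?_ _ Q (fun x hx => ?_) hJ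
    · rw [show (MvPolynomial.C : P →+* P') = algebraMap P (MvPolynomial (Fin m) P) from rfl, RingHom.flat_algebraMap_iff]
      infer_instance
    · show τ (σ (MvPolynomial.C x)) ∈ q
      rw [MvPolynomial.map_C, show α.toRingHom x = 0 from hx]
      simp
  refine ⟨⟨inferInstance, m, β, hβ, CILib.isKoszulRegularIdeal_of_nearGen fun p _ hp => ?_⟩, fun q _ => ?_⟩
  · obtain ⟨q, hq⟩ : ∃ q : Ideal B, q.comap τ = p := ⟨p.map τ, by
      rw [Ideal.comap_map_of_surjective _ hτ, ← RingHom.ker_eq_comap_bot, sup_eq_left]; exact hp⟩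
    haveI hqp : q.IsPrime := by
      rw [← Ideal.map_comap_of_surjective τ hτ q, hq]
      exact Ideal.map_isPrime_of_surjective hτ hp
    subst hq
    obtain ⟨g, hg, -, l, hl⟩ := exists_nearGen_of_isRegularIdeal _ (q.comap τ) hp (key q _ rfl).2
    exact ⟨g, hg, l, hl⟩
  · let q0 := q.comap (algebraMap A B)
    let Q0 := q0.comap α.toRingHom
    have hQ0 : ((q.comap τ).comap σ).comap MvPolynomial.C = Q0 := by
      ext x
      show τ (σ (MvPolynomial.C x)) ∈ q ↔ algebraMap A B (α x) ∈ q
      rw [MvPolynomial.map_C]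
      exact Iff.of_eq (congrArg (· ∈ q) (β.commutes _))
    have hreg : CInt.IsRegularIdeal ((RingHom.ker α.toRingHom).map (algebraMap P (Localization.AtPrime Q0))) :=
      (key q Q0 hQ0.symm).1
    obtain ⟨g, hg, hgK, -⟩ := exists_nearGen_of_isRegularIdeal _ Q0 (fun x hx => by
      show algebraMap A B (α x) ∈ q
      rw [show α x = 0 from hx, map_zero]; exact zero_mem _) hreg
    refine ⟨α g, hg, ?_⟩
    letI : Algebra P A := α.toRingHom.toAlgebra
    haveI : IsScalarTower R P A := .of_algebraMap_eq fun r => (α.commutes r).symm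
    let L := Localization.Away g
    let Ag := Localization.Away (α g)
    let π : L →+* Ag := IsLocalization.map Ag α.toRingHom (M := Submonoid.powers g) (T := Submonoid.powers (α g))
      (Submonoid.powers_le.2 (Submonoid.mem_powers _))
    letI : Algebra L Ag := π.toAlgebra
    haveI : IsScalarTower R L Ag := .of_algebraMap_eq fun r => by
      show _ = π (algebraMap R L r)
      rw [IsScalarTower.algebraMap_apply R P L, IsLocalization.map_eq, IsScalarTower.algebraMap_apply R A Ag]
      exact congrArg _ (α.commutes r).symm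
    have hmap : (Submonoid.powers g).map α.toRingHom = Submonoid.powers (α g) := by
      rw [Submonoid.map_powers]; rfl
    haveI : IsLocalization ((Submonoid.powers g).map α.toRingHom) Ag := by rw [hmap]; infer_instance
    have hπ : Function.Surjective π := fun z => by
      obtain ⟨⟨a, ⟨_, k, rfl⟩⟩, rfl⟩ := IsLocalization.mk'_surjective (Submonoid.powers (α g)) z
      obtain ⟨x, rfl⟩ := hα a
      refine ⟨IsLocalization.mk' L x (⟨g ^ k, k, rfl⟩ : Submonoid.powers g), ?_⟩
      rw [IsLocalization.map_mk']
      congr 1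
      exact Subtype.ext (map_pow α g k)
    have hkπ : RingHom.ker π = (RingHom.ker α.toRingHom).map (algebraMap P L) :=
      IsLocalization.ker_map Ag α.toRingHom (M := Submonoid.powers g) hmap
    have h1 : LCI.IsLCI R P := CILib.isLCI_of_pres (AlgHom.id R P) Function.surjective_id (by
      rw [show RingHom.ker (AlgHom.id R P).toRingHom = ⊥ from Ideal.ext fun x => Iff.rfl]
      exact CILib.isKoszulRegularIdeal_bot)
    exact CILib.isLCI_trans (B := L) (CILib.isLCI_trans (B := P) h1 (CILib.isLCI_away g L))
      (CILib.isLCI_of_surjective hπ (hkπ ▸ hgK))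

end Groth.Agent.CancelLib

end
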