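import Groth.Agent.RegLocal.GlobalDim
import Groth.Agent.FibPdLib.Basic
import Groth.Agent.LocFlat.Basic
import Groth.Agent.LocFlat.Fibre
import Groth.Agent.FlatSeqLib.Basic
import Groth.Agent.TorLib.Basic

/-!
# Finite projective dimension from a regular closed fibre

`R' → S'` flat local with regular closed fibre: a finite `S'`-module with `Tor_p^{R'}(M, k) = 0` for `p ≫ 0` has
finite projective dimension over `S'`.
-/

set_option autoImplicit false
set_option linter.style.haveILetI false
set_option backward.isDefEq.respectTransparency false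

universe u

open CategoryTheory IsLocalRing
open scoped TensorProduct

noncomputable section

namespace Groth.Agent.CancelLib

variable {R S : Type u} [CommRing R] [IsLocalRing R] [IsNoetherianRing R] [CommRing S] [IsLocalRing S]
  [IsNoetherianRing S] [Algebra R S] [IsLocalHom (algebraMap R S)] [Module.Flat R S]

/-- `Tor₁(M, k) = 0` gives flatness for finite modules over `S`. -/
theorem flat_of_tor_residue (M : Type u) [AddCommGroup M] [Module R M] [Module S M] [IsScalarTower R S M]
    [Module.Finite S M] (h : Subsingleton (DRing.Tor R 1 M (ResidueField R))) : Module.Flat R M := by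
  obtain ⟨a, p, hp⟩ := Module.Finite.exists_fin' S M
  haveI := FibPdLib.flat_pi (A := R) (B := S) a
  haveI : Module.Finite S (LinearMap.ker p) := Module.Finite.of_fg (IsNoetherian.noetherian _)
  let f : LinearMap.ker p →ₗ[R] (Fin a → S) := (LinearMap.ker p).subtype.restrictScalars R
  let g : (Fin a → S) →ₗ[R] M := p.restrictScalars R
  have hex : Function.Exact f g := LinearMap.exact_subtype_ker_map p
  have hinj : Function.Injective (f.lTensor (ResidueField R)) := by
    rw [LinearMap.lTensor_inj_iff_rTensor_inj]
    refine (injective_iff_map_eq_zero _).2 fun z hz => ?_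
    haveI := h
    haveI := (TorLib.torOneEquivKer f g (ResidueField R) Subtype.val_injective hp hex).symm.injective.subsingleton
    exact congrArg Subtype.val (Subsingleton.elim (⟨z, hz⟩ : LinearMap.ker (f.rTensor (ResidueField R))) 0)
  obtain ⟨-, hfl⟩ := LocFlat.injective_and_flat_of_residue (S := S) f hinj
  haveI := hfl
  exact Module.Flat.of_linearEquiv
    (((Submodule.quotEquivOfEq _ _ (LinearMap.exact_iff.1 hex)).symm.trans
      (g.quotKerEquivOfSurjective hp)).symm)

/-- Vanishing of high `Tor(M, k)` gives finite projective dimension when the closed fibre is regular. -/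
theorem exists_pd_of_tor_residue [IsRegularLocalRing (S ⧸ (maximalIdeal R).map (algebraMap R S))] :
    ∀ (P : ℕ) (M : Type u) [AddCommGroup M] [Module R M] [Module S M] [IsScalarTower R S M] [Module.Finite S M],
      (∀ p, P < p → Subsingleton (DRing.Tor R p M (ResidueField R))) →
      ∃ N, HasProjectiveDimensionLT (ModuleCat.of S M) (N + 1) := by
  intro P
  induction P with
  | zero =>
    intro M _ _ _ _ _ h
    haveI := flat_of_tor_residue (S := S) M (h 1 one_pos)
    obtain ⟨d, hd⟩ := RegLocal.exists_nat_ringKrullDim (S ⧸ (maximalIdeal R).map (algebraMap R S))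
    exact ⟨d, (FibPdLib.pdLT_iff_fib (A := R) (B := S) (d + 1) M).2 (RegLocal.hasProjectiveDimensionLT _ d hd _)⟩
  | succ P ih =>
    intro M _ _ _ _ _ h
    obtain ⟨a, p, hp⟩ := Module.Finite.exists_fin' S M
    haveI := FibPdLib.flat_pi (A := R) (B := S) a
    haveI : Module.Finite S (LinearMap.ker p) := Module.Finite.of_fg (IsNoetherian.noetherian _)
    obtain ⟨N, hN⟩ := ih (LinearMap.ker p) fun q hq => by
      obtain ⟨r, rfl⟩ := Nat.exists_eq_succ_of_ne_zero (show q ≠ 0 by omega)
      haveI := h (r + 2) (by omega)
      exact (TorLib.torSuccEquiv ((LinearMap.ker p).subtype.restrictScalars R) (p.restrictScalars R) _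
        Subtype.val_injective hp (LinearMap.exact_subtype_ker_map p) r).symm.injective.subsingleton
    exact ⟨N + 1, (RegLocal.syzygy_iff p hp N).2 hN⟩

end Groth.Agent.CancelLib

end
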