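import Groth.Agent.CancelLib.TorDim
import Groth.Agent.CancelLib.Descent
import Groth.Agent.CancelLib.FibrePd
import Groth.Agent.PerfMorLib.Examples

/-!
# Cancellation relative to a flat local map with regular closed fibre
-/

set_option autoImplicit false
set_option linter.style.haveILetI false
set_option backward.isDefEq.respectTransparency false

universe u

open CategoryTheory IsLocalRing RingTheory.Sequence
attribute [local instance] HasDerivedCategory.standard

noncomputable section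

namespace Groth.Agent.CancelLib

theorem subsingleton_tor_congr {A M M' : Type u} [CommRing A] [AddCommGroup M] [Module A M] [AddCommGroup M']
    [Module A M'] (e : M ≃ₗ[A] M') (n : ℕ) (N : Type u) [AddCommGroup N] [Module A N]
    [Subsingleton (DRing.Tor A n M N)] : Subsingleton (DRing.Tor A n M' N) :=
  (((CategoryTheory.Tor (ModuleCat.{u} A) n).mapIso e.toModuleIso).app
    (ModuleCat.of A N)).toLinearEquiv.symm.injective.subsingleton

variable {R S : Type u} [CommRing R] [CommRing S] [IsNoetherianRing R] [IsNoetherianRing S] [IsLocalRing R]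
  [IsLocalRing S] [Algebra R S] [IsLocalHom (algebraMap R S)] [Module.Flat R S]

theorem map_residue_of_regular [IsRegularLocalRing (S ⧸ (maximalIdeal R).map (algebraMap R S))]
    (I : Ideal R) (J : Ideal S) (hI : I ≠ ⊤) (hJ : J ≠ ⊤) (hIJ : I.map (algebraMap R S) ≤ J)
    [Algebra (R ⧸ I) (S ⧸ J)] [IsScalarTower R (R ⧸ I) (S ⧸ J)] (hJreg : CInt.IsRegularIdeal J)
    (hfin : Set.Finite {p : ℕ | ¬Subsingleton (DRing.Tor (R ⧸ I) p (S ⧸ J)
      ((R ⧸ I) ⧸ (maximalIdeal R).map (Ideal.Quotient.mk I)))}) :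
    CInt.IsRegularIdeal I ∧
      CInt.IsRegularIdeal (J.map (Ideal.Quotient.mk (I.map (algebraMap R S)))) := by
  classical
  let I' := I.map (algebraMap R S)
  haveI : IsLocalRing (R ⧸ I) := RegLocal.isLocalRing_quot hI
  haveI : IsLocalRing (S ⧸ I') := RegLocal.isLocalRing_quot (ne_top_of_le_ne_top hJ hIJ)
  haveI : Module.Flat (R ⧸ I) (S ⧸ I') := flat_quotient_map I
  haveI : IsLocalHom (algebraMap (R ⧸ I) (S ⧸ I')) := ⟨fun x hx => by
    obtain ⟨x, rfl⟩ := Ideal.Quotient.mk_surjective x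
    have h1 : IsUnit (Ideal.Quotient.mk I' (algebraMap R S x)) := hx
    exact ((isUnit_map_iff (algebraMap R S) x).1
      ((@isUnit_map_iff _ _ _ _ _ _ _ (Ideal.Quotient.mk I') (IsLocalHom.of_surjective _ Ideal.Quotient.mk_surjective) _).1 h1)).map _⟩
  have hmax : maximalIdeal (R ⧸ I) = (maximalIdeal R).map (Ideal.Quotient.mk I) := RegLocal.maximalIdeal_quot hI
  have hfib : (maximalIdeal (R ⧸ I)).map (algebraMap (R ⧸ I) (S ⧸ I')) =
      ((maximalIdeal R).map (algebraMap R S)).map (Ideal.Quotient.mk I') := by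
    rw [hmax, Ideal.map_map, Ideal.map_map]
    rfl
  have hle : I' ≤ (maximalIdeal R).map (algebraMap R S) := Ideal.map_mono (le_maximalIdeal hI)
  haveI : IsRegularLocalRing ((S ⧸ I') ⧸ (maximalIdeal (R ⧸ I)).map (algebraMap (R ⧸ I) (S ⧸ I'))) :=
    IsRegularLocalRing.of_ringEquiv
      ((DoubleQuot.quotQuotEquivQuotOfLE hle).symm.trans (Ideal.quotEquivOfEq hfib.symm))
  let Q := (S ⧸ I') ⧸ J.map (Ideal.Quotient.mk I')
  haveI : Module.Finite (S ⧸ I') Q := inferInstance
  let e : (S ⧸ J) ≃ₗ[R ⧸ I] Q :=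
    { (DoubleQuot.quotQuotEquivQuotOfLE hIJ).symm.toAddEquiv with
      map_smul' := fun c v => by
        obtain ⟨c, rfl⟩ := Ideal.Quotient.mk_surjective c
        obtain ⟨v, rfl⟩ := Ideal.Quotient.mk_surjective v
        have h1 : (Ideal.Quotient.mk I c) • (Ideal.Quotient.mk J v) = Ideal.Quotient.mk J (algebraMap R S c * v) := by
          rw [Algebra.smul_def, show algebraMap (R ⧸ I) (S ⧸ J) (Ideal.Quotient.mk I c) =
            Ideal.Quotient.mk J (algebraMap R S c) from (IsScalarTower.algebraMap_apply R (R ⧸ I) (S ⧸ J) c).symm,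
            map_mul]
        show (DoubleQuot.quotQuotEquivQuotOfLE hIJ).symm (Ideal.Quotient.mk I c • Ideal.Quotient.mk J v) =
          Ideal.Quotient.mk I c • (DoubleQuot.quotQuotEquivQuotOfLE hIJ).symm (Ideal.Quotient.mk J v)
        rw [h1, Algebra.smul_def, map_mul, map_mul]
        rfl }
  rw [← hmax] at hfin
  obtain ⟨P, hP⟩ : ∃ P, ∀ p, P < p → Subsingleton (DRing.Tor (R ⧸ I) p (S ⧸ J) (ResidueField (R ⧸ I))) := by
    obtain ⟨P, hP⟩ := hfin.bddAbove
    exact ⟨P, fun p hp => by_contra fun h => absurd (hP h) (not_le.2 hp)⟩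
  have hP' : ∀ p, P < p → Subsingleton (DRing.Tor (R ⧸ I) p Q (ResidueField (R ⧸ I))) := fun p hp =>
    haveI := hP p hp
    subsingleton_tor_congr e p (ResidueField (R ⧸ I))
  obtain ⟨N, hN⟩ := exists_pd_of_tor_residue (R := R ⧸ I) (S := S ⧸ I') P Q hP'
  obtain ⟨h1, h2⟩ := isRegularIdeal_cancel hIJ (le_maximalIdeal hJ) hJreg (N + 1) hN
  exact ⟨isRegularIdeal_of_flat hI h1, h2⟩

theorem isRegularIdeal_and_td (I : Ideal R) (J : Ideal S) (hJ : J ≠ ⊤) (hIJ : I.map (algebraMap R S) ≤ J)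
    [Algebra (R ⧸ I) (S ⧸ J)] [IsScalarTower R (R ⧸ I) (S ⧸ J)]
    (hI : CInt.IsRegularIdeal I) (hJI : CInt.IsRegularIdeal (J.map (Ideal.Quotient.mk (I.map (algebraMap R S))))) :
    CInt.IsRegularIdeal J ∧ DRing.HasFiniteTorDim (R ⧸ I) (S ⧸ J) := by
  let I' := I.map (algebraMap R S)
  have hI' : CInt.IsRegularIdeal I' := by
    obtain ⟨rs, hrs, rfl⟩ := hI
    refine ⟨rs.map (algebraMap R S), ⟨IsWeaklyRegular.of_flat hrs.toIsWeaklyRegular, ?_⟩, (Ideal.map_ofList _ _).symm⟩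
    rw [smul_eq_mul, Ideal.mul_top, ← Ideal.map_ofList]
    exact fun h => ne_top_of_le_ne_top hJ hIJ h.symm
  refine ⟨RegIdealLib.isRegularIdeal_of_extension hIJ (le_maximalIdeal hJ) hI' hJI, ?_⟩
  obtain ⟨rs, hrs, hrsJ⟩ := hJI
  haveI : Module.Flat (R ⧸ I) (S ⧸ I') := flat_quotient_map I
  let π : S ⧸ I' →+* S ⧸ J := Ideal.Quotient.factor hIJ
  have htd : PerfMorLib.TD π :=
    (PerfMorLib.perfHom_of_isWeaklyRegular rs.length π rs rfl (Ideal.Quotient.factor_surjective hIJ)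
      hrs.toIsWeaklyRegular (by rw [Ideal.Quotient.factor_ker hIJ, hrsJ])).2
  have h := (PerfMorLib.td_of_flat ((RingHom.flat_algebraMap_iff (R := R ⧸ I) (S := S ⧸ I')).mpr ‹_›)).comp htd
  refine PerfMorLib.hasFiniteTorDim_iff.2 ?_
  convert h using 1
  refine Ideal.Quotient.ringHom_ext (RingHom.ext fun r => ?_)
  exact (IsScalarTower.algebraMap_apply R (R ⧸ I) (S ⧸ J) r).symm

end Groth.Agent.CancelLib

end
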