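import Groth.Agent.CancelLib.Local
import Groth.Agent.PerfMorLib.TorHom
import Groth.Agent.PerfMorLib.Poly
import Groth.Agent.RegIdealLib.Comp
import Groth.Agent.PdFlat.Main
import Groth.Agent.WEField.TorDim

/-!
# Cancellation for surjections of finite tor dimension
-/

set_option autoImplicit false
set_option linter.style.haveILetI false
set_option backward.isDefEq.respectTransparency false

universe u

open CategoryTheory IsLocalRing RingTheory.Sequence
open scoped TensorProduct
attribute [local instance] HasDerivedCategory.standard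

noncomputable section

namespace Groth.Agent.CancelLib

/-- Finite tor dimension of a finite module over a noetherian ring bounds its projective dimension. -/
theorem pdLT_of_torDimLE {T : Type u} [CommRing T] [IsNoetherianRing T] : ∀ (r : ℕ) (M : Type u) [AddCommGroup M] [Module T M]
    [Module.Finite T M], DRing.HasTorDimLE T r M → HasProjectiveDimensionLT (ModuleCat.of T M) (r + 1) := by
  intro r
  induction r with
  | zero =>
    intro M _ _ _ h
    rw [DRingLib.hasTorDimLE_zero_iff] at h
    rw [PdFlat.hasPDLT_one_iff]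
    haveI := h
    haveI := Module.finitePresentation_of_finite T M
    exact Module.Flat.projective_of_finitePresentation
  | succ r ih =>
    intro M _ _ _ h
    obtain ⟨a, p, hp⟩ := Module.Finite.exists_fin' T M
    haveI : Module.Finite T (LinearMap.ker p) := Module.Finite.of_fg (IsNoetherian.noetherian _)
    exact (RegLocal.syzygy_iff p hp r).2 (ih _ (WEField.torDim_shift_down _ _ M (LinearMap.ker p).subtype p
      Subtype.val_injective hp (LinearMap.exact_subtype_ker_map p) r h))

/-- `J ∩ m I = m J` for surjections of local rings of finite tor dimension. -/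
theorem inf_le_of_td {R B C : Type u} [CommRing R] [IsLocalRing R] [IsNoetherianRing R] [CommRing B]
    [CommRing C] [Nontrivial C] (σ : R →+* B) (τ : B →+* C) (hσ : Function.Surjective σ)
    (hτ : Function.Surjective τ) (htd : PerfMorLib.TD τ) :
    RingHom.ker σ ⊓ maximalIdeal R * RingHom.ker (τ.comp σ) ≤ maximalIdeal R * RingHom.ker σ := by
  let K := RingHom.ker (τ.comp σ)
  let J := RingHom.ker σ
  let eB := RingHom.quotientKerEquivOfSurjective hσ
  let τ' : R ⧸ J →+* C := τ.comp eB.toRingHom
  have hτ' : Function.Surjective τ' := hτ.comp eB.surjective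
  have hker : RingHom.ker τ' = K.map (Ideal.Quotient.mk J) := by
    rw [← Ideal.map_comap_of_surjective (Ideal.Quotient.mk J) Ideal.Quotient.mk_surjective (RingHom.ker τ'),
      RingHom.comap_ker]
    congr 2
  have htd' : PerfMorLib.TD τ' := (PerfMorLib.td_of_bijective eB.bijective).comp htd
  let Q := (R ⧸ J) ⧸ K.map (Ideal.Quotient.mk J)
  let eC : C ≃+* Q := (RingHom.quotientKerEquivOfSurjective hτ').symm.trans (Ideal.quotEquivOfEq hker)
  have hQ : PerfMorLib.TD (algebraMap (R ⧸ J) Q) := by
    have : algebraMap (R ⧸ J) Q = eC.toRingHom.comp τ' := by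
      refine RingHom.ext fun x => ?_
      have h1 : (RingHom.quotientKerEquivOfSurjective hτ').symm (τ' x) = Ideal.Quotient.mk _ x := by
        rw [RingEquiv.symm_apply_eq, RingHom.quotientKerEquivOfSurjective_apply_mk]
      change _ = Ideal.quotEquivOfEq hker ((RingHom.quotientKerEquivOfSurjective hτ').symm (τ' x))
      rw [h1, Ideal.quotEquivOfEq_mk]
      rfl
    rw [this]
    exact htd'.comp (PerfMorLib.td_of_bijective eC.bijective)
  obtain ⟨d, hd⟩ := PerfMorLib.hasFiniteTorDim_iff.2 hQ
  have hJK : J ≤ K := fun a ha => by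
    change τ (σ a) = 0
    rw [(RingHom.mem_ker).1 ha, map_zero]
  exact inf_le_of_pd hJK (RingHom.ker_ne_top _) (d + 1) (pdLT_of_torDimLE d Q hd)

/-- Cancellation for surjections of noetherian local rings. -/
theorem isRegularIdeal_cancel_of_td {R B C : Type u} [CommRing R] [IsLocalRing R] [IsNoetherianRing R] [CommRing B]
    [CommRing C] [Nontrivial C] (σ : R →+* B) (τ : B →+* C) (hσ : Function.Surjective σ)
    (hτ : Function.Surjective τ) (hreg : CInt.IsRegularIdeal (RingHom.ker (τ.comp σ))) (htd : PerfMorLib.TD τ) :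
    CInt.IsRegularIdeal (RingHom.ker σ) ∧ CInt.IsRegularIdeal (RingHom.ker τ) := by
  let K := RingHom.ker (τ.comp σ)
  let J := RingHom.ker σ
  let eB := RingHom.quotientKerEquivOfSurjective hσ
  let τ' : R ⧸ J →+* C := τ.comp eB.toRingHom
  have hτ' : Function.Surjective τ' := hτ.comp eB.surjective
  have hker : RingHom.ker τ' = K.map (Ideal.Quotient.mk J) := by
    rw [← Ideal.map_comap_of_surjective (Ideal.Quotient.mk J) Ideal.Quotient.mk_surjective (RingHom.ker τ'),
      RingHom.comap_ker]
    congr 2
  have htd' : PerfMorLib.TD τ' := (PerfMorLib.td_of_bijective eB.bijective).comp htd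
  let Q := (R ⧸ J) ⧸ K.map (Ideal.Quotient.mk J)
  let eC : C ≃+* Q := (RingHom.quotientKerEquivOfSurjective hτ').symm.trans (Ideal.quotEquivOfEq hker)
  have hQ : PerfMorLib.TD (algebraMap (R ⧸ J) Q) := by
    have : algebraMap (R ⧸ J) Q = eC.toRingHom.comp τ' := by
      refine RingHom.ext fun x => ?_
      have h1 : (RingHom.quotientKerEquivOfSurjective hτ').symm (τ' x) = Ideal.Quotient.mk _ x := by
        rw [RingEquiv.symm_apply_eq, RingHom.quotientKerEquivOfSurjective_apply_mk]
      change _ = Ideal.quotEquivOfEq hker ((RingHom.quotientKerEquivOfSurjective hτ').symm (τ' x))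
      rw [h1, Ideal.quotEquivOfEq_mk]
      rfl
    rw [this]
    exact htd'.comp (PerfMorLib.td_of_bijective eC.bijective)
  obtain ⟨d, hd⟩ := PerfMorLib.hasFiniteTorDim_iff.2 hQ
  have hJK : J ≤ K := fun a ha => by
    change τ (σ a) = 0
    rw [(RingHom.mem_ker).1 ha, map_zero]
  obtain ⟨h1, h2⟩ := isRegularIdeal_cancel hJK (le_maximalIdeal (RingHom.ker_ne_top _)) hreg (d + 1) (pdLT_of_torDimLE d Q hd)
  exact ⟨h1, (RegIdealLib.regular_quot_iff σ τ hσ).1 h2⟩

end Groth.Agent.CancelLib

end
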