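import Groth.Agent.RegIdealLib.Comp
import Groth.Agent.RelDivLib.H1Quasi
import Groth.Agent.RelDivLib.QuasiFlat
import Groth.Agent.LciH1Lib.Basic
import Groth.Agent.CILib.KoszulRegular
import Groth.Agent.PerfMorLib.Stalk
import Groth.Agent.CancelLib.TorDim

/-!
# Regular immersions and cancellation by perfect immersions, on stalks
-/

set_option autoImplicit false
set_option linter.style.haveILetI false
set_option backward.isDefEq.respectTransparency false

universe u

open CategoryTheory AlgebraicGeometry IsLocalRing RingTheory.Sequence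
attribute [local instance] HasDerivedCategory.standard

noncomputable section

namespace Groth.Agent.CancelLib

/-- A sequence of any kind is quasi-regular. -/
theorem isQuasiRegular_of_seq {R : Type u} [CommRing R] (k : RegImm.Kind) {rs : List R} (h : k.Seq R rs) :
    CAlgX.IsQuasiRegular rs.get := by
  match k, h with
  | .regular, h =>
    exact RelDivLib.isQuasiRegular_of_isH1Regular
      (LciH1Lib.isH1Regular_get (CILib.isKoszulRegularSeq_of_isWeaklyRegular rs (IsRegular.toIsWeaklyRegular h)))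
  | .koszul, h => exact RelDivLib.isQuasiRegular_of_isH1Regular (LciH1Lib.isH1Regular_get h)
  | .h1, h => exact RelDivLib.isQuasiRegular_of_isH1Regular h
  | .quasi, h => exact h

/-- A regular sequence is of every kind. -/
theorem seq_of_isRegular {R : Type u} [CommRing R] (k : RegImm.Kind) {rs : List R} (h : IsRegular R rs) :
    k.Seq R rs := by
  match k with
  | .regular => exact h
  | .koszul => exact CILib.isKoszulRegularSeq_of_isWeaklyRegular rs h.toIsWeaklyRegular
  | .h1 => exact LciH1Lib.isH1Regular_get (CILib.isKoszulRegularSeq_of_isWeaklyRegular rs h.toIsWeaklyRegular)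
  | .quasi => exact isQuasiRegular_of_seq .regular h

variable {Z X : Scheme.{u}}

theorem isRegularIdeal_stalk_of_at [IsLocallyNoetherian X] {k : RegImm.Kind} (i : Z ⟶ X) (z : Z)
    (h : RegImm.IsRegularImmersionAt k i z) : CInt.IsRegularIdeal (RingHom.ker (i.stalkMap z).hom) := by
  obtain ⟨⟨U, hU⟩, hz, hc, rs, hrs, hK⟩ := h
  letI : Algebra Γ(X, U) (X.presheaf.stalk (i z)) := TopCat.Presheaf.algebra_section_stalk X.presheaf ⟨i z, hz⟩
  haveI := hU.isLocalization_stalk ⟨i z, hz⟩
  let b : Fin rs.length → X.presheaf.stalk (i z) := fun j => algebraMap Γ(X, U) _ (rs.get j)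
  have hb : CAlgX.IsQuasiRegular b :=
    RelDivLib.isQuasiRegular_map (hU.primeIdealOf ⟨i z, hz⟩).asIdeal.primeCompl (isQuasiRegular_of_seq k hrs)
  have hrange : Set.range rs.get = {x | x ∈ rs} := Set.ext fun x => List.mem_iff_get.symm
  have hk : RingHom.ker (i.stalkMap z).hom = Ideal.ofList (List.ofFn b) := by
    rw [RegIdealLib.ker_stalkMap i hU hc z hz, hK, RegIdealLib.ofList_ofFn, Ideal.ofList, Ideal.map_span, ← hrange,
      ← Set.range_comp]
    rfl
  have hle : Ideal.ofList (List.ofFn b) ≤ maximalIdeal (X.presheaf.stalk (i z)) :=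
    hk ▸ le_maximalIdeal (RingHom.ker_ne_top (i.stalkMap z).hom)
  refine ⟨List.ofFn b, ⟨QRegLib.isWeaklyRegular_of_isQuasiRegular b ?_ hb, ?_⟩, hk.symm⟩
  · rw [← RegIdealLib.ofList_ofFn]
    exact hle.trans (maximalIdeal_le_jacobson ⊥)
  · rw [smul_eq_mul, Ideal.mul_top]
    exact fun h => (maximalIdeal.isMaximal _).ne_top (top_le_iff.1 (h.trans_le hle))

theorem isRegularImmersionAt_of_stalk [IsLocallyNoetherian X] (k : RegImm.Kind) (i : Z ⟶ X) [IsImmersion i] (z : Z)
    (h : CInt.IsRegularIdeal (RingHom.ker (i.stalkMap z).hom)) : RegImm.IsRegularImmersionAt k i z := by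
  have hzW : i z ∈ i.coborderRange := subset_coborder (Set.mem_range_self z)
  obtain ⟨_, ⟨U : X.Opens, hU, rfl⟩, hzU, hle⟩ :=
    X.isBasis_affineOpens.exists_subset_of_mem_open hzW i.coborderRange.2
  have hc : IsClosedImmersion (i ∣_ U) := by
    let W := i.coborderRange
    have hV : W.ι ''ᵁ (W.ι ⁻¹ᵁ U) = U := by
      rw [Scheme.Hom.image_preimage_eq_opensRange_inf, Scheme.Opens.opensRange_ι]
      exact inf_eq_right.2 hle
    have h0 : IsClosedImmersion (i ∣_ W) := by
      have hfac : i ∣_ W = (i ⁻¹ᵁ W).ι ≫ i.liftCoborder := by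
        rw [← cancel_mono W.ι, morphismRestrict_ι, Category.assoc, i.liftCoborder_ι]
      haveI : IsClosedImmersion (i ⁻¹ᵁ W).ι := IsClosedImmersion.of_isPreimmersion _ (by
        rw [Scheme.Opens.range_ι, show ((i ⁻¹ᵁ W : Z.Opens) : Set Z) = Set.univ from
          Set.eq_univ_of_forall fun y => subset_coborder (Set.mem_range_self y)]
        exact isClosed_univ)
      rw [hfac]
      infer_instance
    exact hV ▸ RegIdealLib.isClosedImmersion_restrict i W h0 (W.ι ⁻¹ᵁ U)
  obtain ⟨V, -, hzV, hcV, rs, hrs, hK⟩ := RegIdealLib.exists_regular_nhd i hU hc z hzU h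
  exact ⟨V, hzV, hcV, rs, seq_of_isRegular k hrs, hK⟩

theorem td_stalkMap_of_isPerfectMor {Y : Scheme.{u}} {f : Z ⟶ Y} (h : MoreMor.IsPerfectMor f) (z : Z) :
    PerfMorLib.TD (f.stalkMap z).hom := by
  obtain ⟨V, U, hx, e, hp⟩ := (PerfMorLib.isPerfectMor_iff_exists f).mp h z
  rw [PerfMorLib.td_stalkMap_iff f V.2 U.2 e hx]
  haveI : Module.Flat Γ(Z, U.1) (Localization.AtPrime (U.2.primeIdealOf ⟨z, hx⟩).asIdeal) :=
    IsLocalization.flat _ (U.2.primeIdealOf ⟨z, hx⟩).asIdeal.primeCompl
  exact hp.2.comp (PerfMorLib.td_of_flat ((RingHom.flat_algebraMap_iff).mpr inferInstance))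

theorem isRegularIdeal_stalk_cancel {Y : Scheme.{u}} (i : Z ⟶ Y) (j : Y ⟶ X) [IsImmersion i] [IsImmersion j]
    [IsLocallyNoetherian X] (z : Z) (h : CInt.IsRegularIdeal (RingHom.ker ((i ≫ j).stalkMap z).hom))
    (htd : PerfMorLib.TD (i.stalkMap z).hom) :
    CInt.IsRegularIdeal (RingHom.ker (j.stalkMap (i z)).hom) ∧ CInt.IsRegularIdeal (RingHom.ker (i.stalkMap z).hom) := by
  rw [Scheme.Hom.stalkMap_comp, CommRingCat.hom_comp] at h
  exact isRegularIdeal_cancel_of_td _ _ (j.stalkMap_surjective (i z)) (i.stalkMap_surjective z) h htd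

end Groth.Agent.CancelLib

end
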