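import Groth.Agent.CancelLib.Ring
import Mathlib.RingTheory.Smooth.Local
import Mathlib.RingTheory.Smooth.Locus
import Mathlib.RingTheory.Etale.Kaehler
import Mathlib.RingTheory.Kaehler.Polynomial
import Mathlib.RingTheory.TensorProduct.MvPolynomial

/-!
# A flat algebra with perfect diagonal is smooth

If `A` is noetherian, `B = A[x]/J` is flat of finite type and `B ⊗ B → B` has finite tor dimension, cancellation applied
to `B[x] → B ⊗ B → B` gives `J' ∩ Q K = Q J'`, `K = (x - b)`; read through Taylor's formula this is the Jacobian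
criterion.
-/

set_option autoImplicit false
set_option linter.style.haveILetI false
set_option backward.isDefEq.respectTransparency false

universe u

open CategoryTheory IsLocalRing MvPolynomial
open scoped TensorProduct
attribute [local instance] HasDerivedCategory.standard

noncomputable section

namespace Groth.Agent.CancelLib

/-- Taylor's formula to first order. -/
theorem taylor_one {B : Type u} [CommRing B] {n : ℕ} (b : Fin n → B) (p : MvPolynomial (Fin n) B) :
    p - C (eval b p) - ∑ i, C (eval b (pderiv i p)) * (X i - C (b i)) ∈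
      (RingHom.ker (eval b)) * RingHom.ker (eval b) := by
  induction p using MvPolynomial.induction_on with
  | C a => simp
  | add p q hp hq =>
    have := add_mem hp hq
    convert this using 1
    simp only [map_add, add_mul, Finset.sum_add_distrib]
    ring
  | mul_X p j hp =>
    have hΔ : ∀ i, X i - C (b i) ∈ RingHom.ker (eval b) := fun i => by
      rw [RingHom.mem_ker, map_sub, eval_X, eval_C, sub_self]
    set K := RingHom.ker (eval b)
    set L := ∑ i, C (eval b (pderiv i p)) * (X i - C (b i)) with hL
    have hLK : L ∈ K := sum_mem fun i _ => K.mul_mem_left _ (hΔ i)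
    have key : p * X j - C (eval b (p * X j)) - ∑ i, C (eval b (pderiv i (p * X j))) * (X i - C (b i)) =
        (p - C (eval b p) - L) * X j + L * (X j - C (b j)) := by
      have hsum : ∑ i, C (eval b (pderiv i (p * X j))) * (X i - C (b i)) =
          C (b j) * L + C (eval b p) * (X j - C (b j)) := by
        rw [hL, Finset.mul_sum, show C (eval b p) * (X j - C (b j)) =
          ∑ i, (if i = j then C (eval b p) * (X i - C (b i)) else 0) by simp, ← Finset.sum_add_distrib]
        refine Finset.sum_congr rfl fun i _ => ?_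
        rw [pderiv_mul, map_add, map_mul, map_mul, eval_X, map_add, map_mul, map_mul]
        by_cases hij : i = j
        · subst hij
          rw [pderiv_X_self, map_one, map_one, if_pos rfl]
          ring
        · rw [pderiv_X_of_ne (Ne.symm hij), map_zero, map_zero, if_neg hij]
          ring
      rw [hsum, map_mul, eval_X, map_mul]
      ring
    rw [key]
    exact add_mem ((K * K).mul_mem_right _ hp) (Ideal.mul_mem_mul hLK (hΔ j))

/-- The comparison upstairs, after localisation. -/
theorem mem_mul_localization {T' C B : Type u} [CommRing T'] [IsNoetherianRing T'] [CommRing C] [CommRing B]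
    (σ : T' →+* C) (τ : C →+* B) (ev : T' →+* B) (hσ : Function.Surjective σ) (hτ : Function.Surjective τ)
    (hev : Function.Surjective ev) (hτσ : τ.comp σ = ev) (q : Ideal B) [q.IsPrime]
    (htd : PerfMorLib.TD ((algebraMap B (Localization.AtPrime q)).comp τ)) (x : T')
    (hx : x ∈ RingHom.ker σ) (hxK : x ∈ q.comap ev * RingHom.ker ev) :
    algebraMap T' (Localization.AtPrime (q.comap ev)) x ∈ maximalIdeal (Localization.AtPrime (q.comap ev)) *
      (RingHom.ker σ).map (algebraMap T' (Localization.AtPrime (q.comap ev))) := by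
  subst hτσ
  let Q := q.comap (τ.comp σ)
  let qC := q.comap τ
  let σ' := Localization.localRingHom Q qC σ rfl
  let τ' := Localization.localRingHom qC q τ rfl
  have hσ' : Function.Surjective σ' := CMGraded.localRingHom_surjective hσ _ _ _
  have hτ' : Function.Surjective τ' := CMGraded.localRingHom_surjective hτ _ _ rfl
  have htd' : PerfMorLib.TD τ' := by
    rw [PerfMorLib.td_localRingHom_iff]
    exact htd
  have hcomp : τ'.comp σ' = Localization.localRingHom Q q (τ.comp σ) rfl :=
    (Localization.localRingHom_comp Q qC q σ rfl τ rfl).symm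
  have h1 := inf_le_of_td σ' τ' hσ' hτ' htd'
  rw [hcomp, CMGraded.ker_localRingHom hσ, CMGraded.ker_localRingHom (φ := τ.comp σ) hev] at h1
  refine h1 ⟨Ideal.mem_map_of_mem _ hx, ?_⟩
  rw [← Localization.AtPrime.map_eq_maximalIdeal, ← Ideal.map_mul]
  exact Ideal.mem_map_of_mem _ hxK

/-- `m J` descends along a flat ring map, at a prime. -/
theorem mem_mul_descend {T T' : Type u} [CommRing T] [CommRing T'] (ψ : T →+* T') (hψ : ψ.Flat) (J : Ideal T)
    (Q : Ideal T') [Q.IsPrime] (p : Ideal T) [p.IsPrime] (hp : p = Q.comap ψ) (j : T) (hj : j ∈ J)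
    (h : algebraMap T' (Localization.AtPrime Q) (ψ j) ∈
      maximalIdeal (Localization.AtPrime Q) * (J.map ψ).map (algebraMap T' (Localization.AtPrime Q))) :
    algebraMap T (Localization.AtPrime p) j ∈
      maximalIdeal (Localization.AtPrime p) * J.map (algebraMap T (Localization.AtPrime p)) := by
  letI : Algebra T T' := ψ.toAlgebra
  haveI : Module.Flat T T' := hψ
  letI : Algebra (Localization.AtPrime p) (Localization.AtPrime Q) :=
    (Localization.localRingHom p Q ψ hp).toAlgebra
  haveI : IsLocalHom (algebraMap (Localization.AtPrime p) (Localization.AtPrime Q)) :=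
    Localization.isLocalHom_localRingHom p Q ψ hp
  haveI : IsScalarTower T (Localization.AtPrime p) (Localization.AtPrime Q) :=
    .of_algebraMap_eq fun x => (IsScalarTower.algebraMap_apply T T' (Localization.AtPrime Q) x).trans
      (Localization.localRingHom_to_map p Q ψ hp x).symm
  haveI : Module.Flat T' (Localization.AtPrime Q) := IsLocalization.flat _ Q.primeCompl
  haveI : Module.Flat T (Localization.AtPrime Q) := Module.Flat.trans T T' _
  haveI : Module.Flat (Localization.AtPrime p) (Localization.AtPrime Q) :=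
    (Module.flat_iff_of_isLocalization (Localization.AtPrime p) p.primeCompl _).2 inferInstance
  refine mem_mul_of_map_mem (O' := Localization.AtPrime Q) _ (Ideal.mem_map_of_mem _ hj) ?_
  rw [Ideal.map_map, ← IsScalarTower.algebraMap_eq, ← IsScalarTower.algebraMap_apply,
    IsScalarTower.algebraMap_apply T T' (Localization.AtPrime Q), IsScalarTower.algebraMap_eq T T'
    (Localization.AtPrime Q), ← Ideal.map_map]
  exact h

/-- The Jacobian criterion from a membership statement. -/
theorem injective_cotangent_of_forall {A P S κ : Type u} [CommRing A] [CommRing P] [CommRing S] [CommRing κ]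
    [Algebra A P] [Algebra P S] [Algebra S κ] [Algebra P κ] [IsScalarTower P S κ] (m : Ideal P)
    (hm : ∀ a ∈ m, algebraMap P κ a = 0) (hs : Function.Surjective (algebraMap P κ))
    (h : ∀ g ∈ RingHom.ker (algebraMap P S), (1 : κ) ⊗ₜ[P] KaehlerDifferential.D A P g = 0 →
      g ∈ m * RingHom.ker (algebraMap P S)) :
    Function.Injective (KaehlerDifferential.cotangentComplexBaseChange A S P κ) := by
  rw [injective_iff_map_eq_zero]
  intro z hz
  obtain ⟨⟨g, hg⟩, rfl⟩ : ∃ g : RingHom.ker (algebraMap P S), (1 : κ) ⊗ₜ[P] g = z :=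
    TensorProduct.mk_surjective P (RingHom.ker (algebraMap P S)) κ hs z
  rw [KaehlerDifferential.cotangentComplexBaseChange_tmul, one_smul, KaehlerDifferential.kerToTensor_apply] at hz
  have key : g ∈ (m • ⊤ : Submodule P (RingHom.ker (algebraMap P S))).map (RingHom.ker (algebraMap P S)).subtype := by
    rw [Submodule.map_smul'', Submodule.map_top, Submodule.range_subtype, smul_eq_mul]
    exact h g hg hz
  obtain ⟨w, hw, hwj⟩ := key
  have hw' : w ∈ (m • ⊤ : Submodule P (RingHom.ker (algebraMap P S))) := hw
  rw [show (⟨g, hg⟩ : RingHom.ker (algebraMap P S)) = w from Subtype.ext hwj.symm]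
  refine Submodule.smul_induction_on hw' (fun a ha v _ => ?_) (fun u v hu hv => by
    rw [TensorProduct.tmul_add, hu, hv, add_zero])
  rw [TensorProduct.tmul_smul, TensorProduct.smul_tmul', Algebra.smul_def, mul_one, hm a ha, TensorProduct.zero_tmul]

theorem mem_mul_of_pderiv_mem {A B : Type u} [CommRing A] [IsNoetherianRing A] [CommRing B] [Algebra A B]
    [Module.Flat A B] [Algebra.FiniteType A B] (τ : B ⊗[A] B →+* B) (hmul : ∀ x y : B, τ (x ⊗ₜ[A] y) = x * y)
    {n : ℕ} (φ : MvPolynomial (Fin n) A →ₐ[A] B) (hφ : Function.Surjective φ) (q : Ideal B) [q.IsPrime]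
    (htd : PerfMorLib.TD ((algebraMap B (Localization.AtPrime q)).comp τ))
    (j : MvPolynomial (Fin n) A) (hj : j ∈ RingHom.ker φ.toRingHom) (hd : ∀ i, φ (pderiv i j) ∈ q) :
    algebraMap _ (Localization.AtPrime (q.comap φ.toRingHom)) j ∈
      maximalIdeal (Localization.AtPrime (q.comap φ.toRingHom)) *
        (RingHom.ker φ.toRingHom).map (algebraMap _ (Localization.AtPrime (q.comap φ.toRingHom))) := by
  let T := MvPolynomial (Fin n) A
  let T' := MvPolynomial (Fin n) B
  let J := RingHom.ker φ.toRingHom
  let b : Fin n → B := fun i => φ (X i)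
  have hb : (aeval b : T →ₐ[A] B) = φ := (aeval_unique φ).symm
  let e : B ⊗[A] T ≃ₐ[B] T' := MvPolynomial.algebraTensorAlgEquiv A B
  let σ : T' →ₐ[B] B ⊗[A] B := (Algebra.TensorProduct.map (AlgHom.id B B) φ).comp e.symm.toAlgHom
  have hσ : Function.Surjective σ := (LinearMap.lTensor_surjective B (g := φ.toLinearMap) hφ).comp e.symm.surjective
  have hτσ : τ.comp σ.toRingHom = eval b := by
    refine MvPolynomial.ringHom_ext (fun c => ?_) fun i => ?_
    · show τ (σ (algebraMap B T' c)) = eval b (C c)
      rw [σ.commutes, eval_C, Algebra.TensorProduct.algebraMap_apply]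
      exact (hmul c 1).trans (mul_one c)
    · show τ (σ (X i)) = eval b (X i)
      rw [eval_X]
      show τ (Algebra.TensorProduct.map (AlgHom.id B B) φ (e.symm (X i))) = _
      rw [MvPolynomial.algebraTensorAlgEquiv_symm_X, Algebra.TensorProduct.map_tmul]
      exact (hmul 1 (φ (X i))).trans (one_mul _)
  let ψ : T →+* T' := MvPolynomial.map (algebraMap A B)
  have hψe : ψ = e.toRingEquiv.toRingHom.comp
      (Algebra.TensorProduct.includeRight : T →ₐ[A] B ⊗[A] T).toRingHom := by
    refine MvPolynomial.ringHom_ext (fun c => ?_) fun i => ?_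
    · show MvPolynomial.map (algebraMap A B) (C c) = e (1 ⊗ₜ C c)
      rw [map_C, MvPolynomial.algebraTensorAlgEquiv_tmul, one_smul, map_C]
    · show MvPolynomial.map (algebraMap A B) (X i) = e (1 ⊗ₜ X i)
      rw [map_X, MvPolynomial.algebraTensorAlgEquiv_tmul, one_smul, map_X]
  have hkerσ : RingHom.ker σ.toRingHom = J.map ψ := by
    rw [hψe, ← Ideal.map_map]
    have h1 : RingHom.ker (Algebra.TensorProduct.map (AlgHom.id B B) φ).toRingHom =
        J.map (Algebra.TensorProduct.includeRight : T →ₐ[A] B ⊗[A] T).toRingHom :=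
      Algebra.TensorProduct.lTensor_ker (A := B) φ hφ
    rw [← h1, show σ.toRingHom = (Algebra.TensorProduct.map (AlgHom.id B B) φ).toRingHom.comp
      e.symm.toRingEquiv.toRingHom from rfl, ← RingHom.comap_ker]
    exact (Ideal.map_comap_of_equiv e.toRingEquiv).symm
  have hψ : ψ.Flat := by
    have h1 : (Algebra.TensorProduct.includeRight : T →ₐ[A] B ⊗[A] T).toRingHom =
        (Algebra.TensorProduct.comm A T B).toRingEquiv.toRingHom.comp (algebraMap T (T ⊗[A] B)) := by
      refine RingHom.ext fun x => ?_
      show (1 : B) ⊗ₜ[A] x = (Algebra.TensorProduct.comm A T B) (x ⊗ₜ 1)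
      rw [Algebra.TensorProduct.comm_tmul]
    rw [hψe, h1]
    exact RingHom.Flat.comp (RingHom.Flat.comp ((RingHom.flat_algebraMap_iff).mpr inferInstance)
      (RingHom.Flat.of_bijective (Algebra.TensorProduct.comm A T B).bijective)) (RingHom.Flat.of_bijective e.bijective)
  let Q : Ideal T' := q.comap (eval b)
  let qC := q.comap τ
  have hQ : qC.comap σ.toRingHom = Q := by
    show (q.comap τ).comap σ.toRingHom = _
    rw [Ideal.comap_comap, hτσ]
  have hp : Q.comap ψ = q.comap φ.toRingHom := by
    ext x
    show eval b (MvPolynomial.map (algebraMap A B) x) ∈ q ↔ φ x ∈ q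
    rw [MvPolynomial.eval_map, ← aeval_def, hb]
  haveI : IsNoetherianRing B := Algebra.FiniteType.isNoetherianRing A B
  haveI : IsNoetherianRing T' := inferInstanceAs (IsNoetherianRing (MvPolynomial (Fin n) B))
  -- the relation upstairs
  have hmemK : ψ j ∈ Q * RingHom.ker (eval b) := by
    have h0 : eval b (ψ j) = 0 := by
      show eval b (MvPolynomial.map (algebraMap A B) j) = 0
      rw [MvPolynomial.eval_map, ← aeval_def, hb]
      exact hj
    have h1 := taylor_one b (ψ j)
    rw [h0, map_zero, sub_zero] at h1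
    have hKQ : RingHom.ker (eval b) ≤ Q := fun x hx => by
      show eval b x ∈ q
      rw [(RingHom.mem_ker).1 hx]
      exact zero_mem _
    have h2 : ∑ i, C (eval b (pderiv i (ψ j))) * (X i - C (b i)) ∈ Q * RingHom.ker (eval b) := by
      refine sum_mem fun i _ => Ideal.mul_mem_mul ?_ ?_
      · show eval b (C _) ∈ q
        rw [eval_C]
        show eval b (pderiv i (MvPolynomial.map (algebraMap A B) j)) ∈ q
        rw [MvPolynomial.pderiv_map, MvPolynomial.eval_map, ← aeval_def, hb]
        exact hd i
      · rw [RingHom.mem_ker, map_sub, eval_X, eval_C, sub_self]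
    simpa using add_mem (Ideal.mul_mono_left hKQ h1) h2
  have hτ : Function.Surjective τ := fun x => ⟨x ⊗ₜ 1, (hmul x 1).trans (mul_one x)⟩
  have key := mem_mul_localization σ.toRingHom τ (eval b) hσ hτ (fun x => ⟨C x, eval_C x⟩) hτσ q htd (ψ j)
    (hkerσ ▸ Ideal.mem_map_of_mem _ hj) hmemK
  rw [hkerσ] at key
  exact mem_mul_descend ψ hψ J Q _ hp.symm j hj key

/-- Reading off partial derivatives from the differential. -/
theorem pderiv_mem_of_tmul_eq_zero {A B : Type u} [CommRing A] [CommRing B] [Algebra A B] {n : ℕ}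
    (φ : MvPolynomial (Fin n) A →ₐ[A] B) (q : Ideal B) [q.IsPrime]
    [Algebra (Localization.AtPrime (q.comap φ.toRingHom)) (Localization.AtPrime q)]
    (h₁ : Function.Surjective (algebraMap (Localization.AtPrime (q.comap φ.toRingHom)) (Localization.AtPrime q)))
    (j : MvPolynomial (Fin n) A)
    (h0 : (1 : ResidueField (Localization.AtPrime q)) ⊗ₜ[Localization.AtPrime (q.comap φ.toRingHom)]
      KaehlerDifferential.D A (Localization.AtPrime (q.comap φ.toRingHom))
        (algebraMap _ (Localization.AtPrime (q.comap φ.toRingHom)) j) = 0)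
    (hπ : ∀ x, algebraMap (Localization.AtPrime (q.comap φ.toRingHom)) (Localization.AtPrime q)
      (algebraMap _ _ x) = algebraMap B (Localization.AtPrime q) (φ x)) (i : Fin n) :
    φ (pderiv i j) ∈ q := by
  let T := MvPolynomial (Fin n) A
  let p := q.comap φ.toRingHom
  let P := Localization.AtPrime p
  let S := Localization.AtPrime q
  let κ := ResidueField S
  letI : Algebra T κ := ((algebraMap P κ).comp (algebraMap T P)).toAlgebra
  haveI : IsScalarTower T P κ := .of_algebraMap_eq fun _ => rfl
  let ℓ : Ω[T⁄A] →ₗ[T] κ :=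
    (LinearMap.toSpanSingleton T κ 1) ∘ₗ (Finsupp.lapply i) ∘ₗ
      (KaehlerDifferential.mvPolynomialBasis A (Fin n)).repr.toLinearMap
  let L₀ : Ω[P⁄A] →ₗ[T] κ := IsLocalizedModule.lift p.primeCompl (KaehlerDifferential.map A A T P) ℓ fun c =>
    (Module.End.isUnit_iff _).2 (by
      have hc : IsUnit (algebraMap T κ c) := (IsLocalization.map_units P c).map (algebraMap P κ)
      have heq : ∀ x : κ, algebraMap T (Module.End T κ) c x = algebraMap T κ c * x := fun x => by
        rw [Module.algebraMap_end_apply, Algebra.smul_def]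
      exact ⟨fun x y hxy => hc.mul_left_cancel (by rwa [heq, heq] at hxy), fun y => ⟨↑hc.unit⁻¹ * y, by
        rw [heq, ← mul_assoc, IsUnit.mul_val_inv, one_mul]⟩⟩)
  let L : Ω[P⁄A] →ₗ[P] κ := LinearMap.extendScalarsOfIsLocalization p.primeCompl P L₀
  have hL : L (KaehlerDifferential.D A P (algebraMap T P j)) = algebraMap T κ (pderiv i j) := by
    show L₀ _ = _
    rw [← KaehlerDifferential.map_D A A T P, IsLocalizedModule.lift_apply]
    show ((KaehlerDifferential.mvPolynomialBasis A (Fin n)).repr (KaehlerDifferential.D A T j) i) • (1 : κ) = _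
    rw [KaehlerDifferential.mvPolynomialBasis_repr_apply, Algebra.smul_def, mul_one]
  have h2 := congrArg (L.liftBaseChange κ) h0
  rw [LinearMap.liftBaseChange_tmul, one_smul, map_zero, hL] at h2
  have h3 : algebraMap T κ (pderiv i j) = algebraMap S κ (algebraMap B S (φ (pderiv i j))) := by
    show algebraMap P κ (algebraMap T P _) = _
    rw [IsScalarTower.algebraMap_apply P S κ, hπ]
  rw [h3] at h2
  exact (IsLocalization.AtPrime.to_map_mem_maximal_iff S q _).1 (Ideal.Quotient.eq_zero_iff_mem.1 h2)

theorem isSmoothAt_of_diagonal {A B : Type u} [CommRing A] [IsNoetherianRing A] [CommRing B] [Algebra A B]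
    [Module.Flat A B] [Algebra.FiniteType A B] (τ : B ⊗[A] B →+* B) (hmul : ∀ x y : B, τ (x ⊗ₜ[A] y) = x * y)
    (q : Ideal B) [q.IsPrime] (htd : PerfMorLib.TD ((algebraMap B (Localization.AtPrime q)).comp τ)) :
    Algebra.IsSmoothAt A q := by
  obtain ⟨n, φ, hφ⟩ := Algebra.FiniteType.iff_quotient_mvPolynomial''.mp ‹Algebra.FiniteType A B›
  let T := MvPolynomial (Fin n) A
  let p := q.comap φ.toRingHom
  let P := Localization.AtPrime p
  let S := Localization.AtPrime q
  let π : P →+* S := Localization.localRingHom p q φ.toRingHom rfl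
  letI : Algebra P S := π.toAlgebra
  haveI : IsScalarTower A P S := .of_algebraMap_eq fun a => by
    show _ = π (algebraMap A P a)
    rw [IsScalarTower.algebraMap_apply A T P, Localization.localRingHom_to_map,
      IsScalarTower.algebraMap_apply A B S]
    exact congrArg _ (φ.commutes a).symm
  haveI : Algebra.FormallyEtale T P := Algebra.FormallyEtale.of_isLocalization p.primeCompl
  haveI : Algebra.FormallySmooth A P := Algebra.FormallySmooth.comp A T P
  haveI : Module.Free P Ω[P⁄A] :=
    .of_equiv (KaehlerDifferential.tensorKaehlerEquivOfFormallyEtale A T P)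
  haveI : Module.Finite P Ω[P⁄A] :=
    .equiv (KaehlerDifferential.tensorKaehlerEquivOfFormallyEtale A T P)
  have h₁ : Function.Surjective (algebraMap P S) := CMGraded.localRingHom_surjective hφ _ _ rfl
  have h₂ : RingHom.ker (algebraMap P S) = (RingHom.ker φ.toRingHom).map (algebraMap T P) :=
    CMGraded.ker_localRingHom (φ := φ.toRingHom) hφ _ _ rfl
  show Algebra.FormallySmooth A S
  rw [Algebra.FormallySmooth.iff_injective_cotangentComplexBaseChange_residueField (P := P) h₁
    (h₂ ▸ (IsNoetherian.noetherian _))]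
  let κ := ResidueField S
  haveI : IsLocalHom π := Localization.isLocalHom_localRingHom p q φ.toRingHom rfl
  refine injective_cotangent_of_forall (maximalIdeal P) (fun a ha => ?_)
    (by rw [IsScalarTower.algebraMap_eq P S κ]; exact IsLocalRing.residue_surjective.comp h₁) fun g hg hz => ?_
  · rw [IsScalarTower.algebraMap_apply P S κ]
    exact Ideal.Quotient.eq_zero_iff_mem.2 (map_nonunit π a ha)
  obtain ⟨⟨⟨j, hj⟩, s⟩, hs⟩ := (IsLocalization.mem_map_algebraMap_iff p.primeCompl P).1 (h₂.le hg)
  have hu : IsUnit (algebraMap T P s) := IsLocalization.map_units P s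
  have hjg : algebraMap T P j = g * algebraMap T P s := hs.symm
  have hg0 : algebraMap P κ g = 0 := by
    rw [IsScalarTower.algebraMap_apply P S κ, (RingHom.mem_ker).1 hg, map_zero]
  have h0 : (1 : κ) ⊗ₜ[P] KaehlerDifferential.D A P (algebraMap T P j) = 0 := by
    rw [hjg, Derivation.leibniz, TensorProduct.tmul_add, TensorProduct.tmul_smul, TensorProduct.tmul_smul, hz,
      smul_zero, add_zero, TensorProduct.smul_tmul', Algebra.smul_def, mul_one, hg0, TensorProduct.zero_tmul]
  have key := mem_mul_of_pderiv_mem τ hmul φ hφ q htd j hj (pderiv_mem_of_tmul_eq_zero φ q h₁ j h0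
    (fun x => Localization.localRingHom_to_map p q φ.toRingHom rfl x))
  rw [← h₂, hjg, Ideal.mul_unit_mem_iff_mem _ hu] at key
  exact key

theorem smooth_of_diagonal {A B : Type u} [CommRing A] [IsNoetherianRing A] [CommRing B] [Algebra A B]
    [Module.Flat A B] [Algebra.FiniteType A B] [Algebra (B ⊗[A] B) B]
    (hmul : ∀ x y : B, algebraMap (B ⊗[A] B) B (x ⊗ₜ[A] y) = x * y) (h : DRing.HasFiniteTorDim (B ⊗[A] B) B) :
    Algebra.Smooth A B := by
  haveI : Algebra.FinitePresentation A B := Algebra.FinitePresentation.of_finiteType.1 ‹_›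
  refine ⟨Algebra.smoothLocus_eq_univ_iff.mp (Set.eq_univ_iff_forall.mpr fun q => ?_), ‹_›⟩
  haveI : Module.Flat B (Localization.AtPrime q.asIdeal) := IsLocalization.flat _ q.asIdeal.primeCompl
  exact isSmoothAt_of_diagonal _ hmul q.asIdeal ((PerfMorLib.hasFiniteTorDim_iff.1 h).comp
    (PerfMorLib.td_of_flat ((RingHom.flat_algebraMap_iff).mpr inferInstance)))

end Groth.Agent.CancelLib

end
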