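import Groth.Agent.CancelLib.Diagonal
import Groth.Agent.TransRegLib.FlatNear

/-!
# Essentially finite type flat local algebras with perfect diagonal are localisations of smooth algebras
-/

set_option autoImplicit false
set_option linter.style.haveILetI false
set_option backward.isDefEq.respectTransparency false

universe u

open CategoryTheory IsLocalRing
open scoped TensorProduct
attribute [local instance] HasDerivedCategory.standard

noncomputable section

namespace Groth.Agent.CancelLib

theorem flat_map_left {A B₀ B C : Type u} [CommRing A] [CommRing B₀] [CommRing B] [CommRing C] [Algebra A B₀]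
    [Algebra A B] [Algebra A C] (f : B₀ →ₐ[A] B) (hf : f.toRingHom.Flat) :
    (Algebra.TensorProduct.map f (AlgHom.id A C)).toRingHom.Flat := by
  letI : Algebra B₀ B := f.toRingHom.toAlgebra
  haveI : IsScalarTower A B₀ B := .of_algebraMap_eq fun a => (f.commutes a).symm
  haveI : Module.Flat B₀ B := hf
  let e : B ⊗[B₀] (B₀ ⊗[A] C) ≃ₐ[B] B ⊗[A] C := Algebra.TensorProduct.cancelBaseChange A B₀ B B C
  have h1 : (Algebra.TensorProduct.includeRight : B₀ ⊗[A] C →ₐ[B₀] B ⊗[B₀] (B₀ ⊗[A] C)).toRingHom =
      (Algebra.TensorProduct.comm B₀ (B₀ ⊗[A] C) B).toRingEquiv.toRingHom.comp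
        (algebraMap (B₀ ⊗[A] C) ((B₀ ⊗[A] C) ⊗[B₀] B)) := by
    refine RingHom.ext fun x => ?_
    show (1 : B) ⊗ₜ[B₀] x = (Algebra.TensorProduct.comm B₀ (B₀ ⊗[A] C) B) (x ⊗ₜ 1)
    rw [Algebra.TensorProduct.comm_tmul]
  have h2 : (Algebra.TensorProduct.map f (AlgHom.id A C)).toRingHom = e.toRingEquiv.toRingHom.comp
      (Algebra.TensorProduct.includeRight : B₀ ⊗[A] C →ₐ[B₀] B ⊗[B₀] (B₀ ⊗[A] C)).toRingHom := by
    refine RingHom.ext fun x => ?_
    show Algebra.TensorProduct.map f (AlgHom.id A C) x = e (1 ⊗ₜ x)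
    induction x using TensorProduct.induction_on with
    | zero => simp
    | add u v hu hv => rw [map_add, TensorProduct.tmul_add, map_add, hu, hv]
    | tmul b c =>
      rw [Algebra.TensorProduct.map_tmul, Algebra.TensorProduct.cancelBaseChange_tmul, Algebra.smul_def, mul_one]
      rfl
  rw [h2, h1]
  exact RingHom.Flat.comp (RingHom.Flat.comp ((RingHom.flat_algebraMap_iff).mpr inferInstance)
    (RingHom.Flat.of_bijective (Algebra.TensorProduct.comm B₀ (B₀ ⊗[A] C) B).bijective))
    (RingHom.Flat.of_bijective e.bijective)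

theorem flat_map_map {A B₀ B : Type u} [CommRing A] [CommRing B₀] [CommRing B] [Algebra A B₀] [Algebra A B]
    (f : B₀ →ₐ[A] B) (hf : f.toRingHom.Flat) : (Algebra.TensorProduct.map f f).toRingHom.Flat := by
  have h : (Algebra.TensorProduct.map f f).toRingHom =
      (Algebra.TensorProduct.comm A B B).toRingEquiv.toRingHom.comp
        ((Algebra.TensorProduct.map f (AlgHom.id A B)).toRingHom.comp
          ((Algebra.TensorProduct.comm A B B₀).toRingEquiv.toRingHom.comp
            (Algebra.TensorProduct.map f (AlgHom.id A B₀)).toRingHom)) := by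
    refine RingHom.ext fun x => ?_
    induction x using TensorProduct.induction_on with
    | zero => simp
    | add u v hu hv => simp only [map_add, hu, hv]
    | tmul b c => simp
  rw [h]
  exact RingHom.Flat.comp (RingHom.Flat.comp (RingHom.Flat.comp (flat_map_left f hf)
    (RingHom.Flat.of_bijective (Algebra.TensorProduct.comm A B B₀).bijective)) (flat_map_left f hf))
    (RingHom.Flat.of_bijective (Algebra.TensorProduct.comm A B B).bijective)

theorem isAtPrime_map {B₁ C B : Type u} [CommRing B₁] [CommRing C] [CommRing B] [Algebra B₁ C] [Algebra B₁ B]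
    [Algebra C B] [IsScalarTower B₁ C B] {c : B₁} [IsLocalization.Away c C] (q : Ideal B₁) [q.IsPrime]
    [IsLocalization.AtPrime B q] (hc : c ∉ q) :
    ∃ _ : (q.map (algebraMap B₁ C)).IsPrime, IsLocalization.AtPrime B (q.map (algebraMap B₁ C)) := by
  have hdisj : Disjoint (Submonoid.powers c : Set B₁) q := by
    rw [Set.disjoint_left]
    rintro _ ⟨k, rfl⟩ hk
    exact hc (Ideal.IsPrime.mem_of_pow_mem inferInstance k hk)
  have hp : (q.map (algebraMap B₁ C)).IsPrime :=
    IsLocalization.isPrime_of_isPrime_disjoint (Submonoid.powers c) C q inferInstance hdisj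
  refine ⟨hp, ?_⟩
  have hcomap : (q.map (algebraMap B₁ C)).comap (algebraMap B₁ C) = q :=
    IsLocalization.under_map_of_isPrime_disjoint (Submonoid.powers c) C inferInstance hdisj
  have hle : Submonoid.powers c ≤ q.primeCompl := Submonoid.powers_le.2 hc
  haveI : IsLocalization (q.primeCompl.map (algebraMap B₁ C)) B :=
    IsLocalization.isLocalization_of_submonoid_le C B (Submonoid.powers c) q.primeCompl hle
  refine IsLocalization.of_le (q.primeCompl.map (algebraMap B₁ C)) _ ?_ ?_
  · rintro _ ⟨x, hx, rfl⟩ hm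
    exact hx (hcomap.le hm)
  · intro z hz
    obtain ⟨⟨x, t⟩, hxt⟩ := IsLocalization.surj (Submonoid.powers c) z
    have hxq : x ∉ q := fun hx => hz ((Ideal.mul_unit_mem_iff_mem _ (IsLocalization.map_units C t)).1
      (hxt ▸ Ideal.mem_map_of_mem _ hx))
    refine isUnit_of_mul_isUnit_left (y := algebraMap C B (algebraMap B₁ C t)) ?_
    rw [← map_mul, hxt, ← IsScalarTower.algebraMap_apply]
    exact IsLocalization.map_units B (⟨x, hxq⟩ : q.primeCompl)

theorem exists_smooth_of_finiteType {A B B₁ : Type u} [CommRing A] [IsNoetherianRing A] [CommRing B]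
    [Algebra A B] [CommRing B₁] [Algebra A B₁] [Algebra B₁ B] [IsScalarTower A B₁ B] [Algebra.FiniteType A B₁]
    [Module.Flat A B₁] (q : Ideal B₁) [q.IsPrime] [IsLocalization.AtPrime B q] [Algebra (B ⊗[A] B) B]
    (hmul : ∀ x y : B, algebraMap (B ⊗[A] B) B (x ⊗ₜ[A] y) = x * y) (h : DRing.HasFiniteTorDim (B ⊗[A] B) B) :
    ∃ (C : Type u) (_ : CommRing C) (_ : Algebra A C) (_ : Algebra C B) (_ : IsScalarTower A C B)
      (q : Ideal C) (_ : q.IsPrime), Algebra.Smooth A C ∧ IsLocalization.AtPrime B q := by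
  haveI : Algebra.FinitePresentation A B₁ := Algebra.FinitePresentation.of_finiteType.1 ‹_›
  let f : B₁ →ₐ[A] B := IsScalarTower.toAlgHom A B₁ B
  let τ : B₁ ⊗[A] B₁ →+* B₁ := (Algebra.TensorProduct.lmul' A (S := B₁)).toRingHom
  have hτ : ∀ x y : B₁, τ (x ⊗ₜ[A] y) = x * y := fun x y => Algebra.TensorProduct.lmul'_apply_tmul x y
  let e : Localization.AtPrime q ≃ₐ[B₁] B := IsLocalization.algEquiv q.primeCompl _ _
  have hflat : f.toRingHom.Flat := (IsLocalization.flat B q.primeCompl : Module.Flat B₁ B)
    |> fun h => (RingHom.flat_algebraMap_iff (R := B₁) (S := B)).mpr h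
  have htd : PerfMorLib.TD ((algebraMap B₁ (Localization.AtPrime q)).comp τ) := by
    have h1 : (algebraMap B₁ (Localization.AtPrime q)).comp τ = e.symm.toRingEquiv.toRingHom.comp
        ((algebraMap (B ⊗[A] B) B).comp (Algebra.TensorProduct.map f f).toRingHom) := by
      refine RingHom.ext fun x => ?_
      induction x using TensorProduct.induction_on with
      | zero => simp
      | add u v hu hv => simp only [map_add, hu, hv]
      | tmul b c =>
        show algebraMap B₁ _ (τ (b ⊗ₜ c)) = e.symm (algebraMap (B ⊗[A] B) B (f b ⊗ₜ f c))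
        rw [hτ, hmul, ← map_mul]
        exact (e.symm.commutes (b * c)).symm
    rw [h1]
    exact ((PerfMorLib.td_of_flat (flat_map_map f hflat)).comp (PerfMorLib.hasFiniteTorDim_iff.1 h)).comp
      (PerfMorLib.td_of_bijective e.symm.bijective)
  haveI : Algebra.IsSmoothAt A q := isSmoothAt_of_diagonal τ hτ q htd
  obtain ⟨c, hc, hsm⟩ := Algebra.IsSmoothAt.exists_notMem_smooth (R := A) q
  let C := Localization.Away c
  letI : Algebra C B := (IsLocalization.Away.lift c (IsLocalization.map_units B (⟨c, hc⟩ : q.primeCompl))).toAlgebra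
  haveI : IsScalarTower B₁ C B := .of_algebraMap_eq fun x => (IsLocalization.Away.lift_eq c _ x).symm
  haveI : IsScalarTower A C B := .of_algebraMap_eq fun a => by
    rw [IsScalarTower.algebraMap_apply A B₁ C, ← IsScalarTower.algebraMap_apply B₁ C B,
      ← IsScalarTower.algebraMap_apply A B₁ B]
  obtain ⟨hp, hloc⟩ := isAtPrime_map (C := C) (B := B) q hc
  exact ⟨C, inferInstance, inferInstance, inferInstance, inferInstance, q.map (algebraMap B₁ C), hp, hsm, hloc⟩

theorem exists_smooth_of_essFiniteType {A B : Type u} [CommRing A] [IsNoetherianRing A] [CommRing B]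
    [IsLocalRing B] [Algebra A B] [Module.Flat A B] [Algebra.EssFiniteType A B] [Algebra (B ⊗[A] B) B]
    (hmul : ∀ x y : B, algebraMap (B ⊗[A] B) B (x ⊗ₜ[A] y) = x * y) (h : DRing.HasFiniteTorDim (B ⊗[A] B) B) :
    ∃ (C : Type u) (_ : CommRing C) (_ : Algebra A C) (_ : Algebra C B) (_ : IsScalarTower A C B)
      (q : Ideal C) (_ : q.IsPrime), Algebra.Smooth A C ∧ IsLocalization.AtPrime B q := by
  let B₀ := Algebra.EssFiniteType.subalgebra A B
  let q₀ : Ideal B₀ := (maximalIdeal B).comap (algebraMap B₀ B)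
  have hM : Algebra.EssFiniteType.submonoid A B = q₀.primeCompl := by
    ext x
    show IsUnit (algebraMap B₀ B x) ↔ ¬ algebraMap B₀ B x ∈ maximalIdeal B
    exact notMem_maximalIdeal.symm
  haveI : IsLocalization.AtPrime B q₀ := by
    show IsLocalization q₀.primeCompl B
    rw [← hM]
    infer_instance
  haveI : Algebra.FinitePresentation A B₀ := Algebra.FinitePresentation.of_finiteType.1 inferInstance
  haveI : Module.Flat A (LocalizedModule q₀.primeCompl B₀) :=
    Module.Flat.of_linearEquiv
      ((IsLocalizedModule.iso q₀.primeCompl (Algebra.linearMap B₀ B)).restrictScalars A)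
  obtain ⟨g, hg, hflat⟩ := TransRegLib.exists_flat_away (T := A) q₀
  let B₁ := Localization.Away g
  haveI : Module.Flat A B₁ := hflat B₁ inferInstance
  letI : Algebra B₁ B := (IsLocalization.Away.lift g (IsLocalization.map_units B (⟨g, hg⟩ : q₀.primeCompl))).toAlgebra
  haveI : IsScalarTower B₀ B₁ B := .of_algebraMap_eq fun x => (IsLocalization.Away.lift_eq g _ x).symm
  haveI : IsScalarTower A B₁ B := .of_algebraMap_eq fun a => by
    rw [IsScalarTower.algebraMap_apply A B₀ B₁, ← IsScalarTower.algebraMap_apply B₀ B₁ B,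
      ← IsScalarTower.algebraMap_apply A B₀ B]
  haveI : Algebra.FiniteType A B₁ := Algebra.FiniteType.trans (R := A) (S := B₀) inferInstance inferInstance
  obtain ⟨hp, hloc⟩ := isAtPrime_map (C := B₁) (B := B) q₀ hg
  exact exists_smooth_of_finiteType (q₀.map (algebraMap B₀ B₁)) hmul h

end Groth.Agent.CancelLib

end
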