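import Mathlib
import Groth.Agent.RegLocal.Serre

/-!
# A socle element of `m I` forces infinite projective dimension

Let `A'` be local, `g ∈ A'` nonzero with `m g = 0`, `g = ∑ aᵢ fᵢ` with `aᵢ ∈ m`, `fᵢ` mapping into a proper ideal `I`
of `A = A'/(g)`. Then `A/I` has infinite projective dimension over `A`: lifting a resolution to `A'` gives an operator
`θ` of degree `-2`, and comparison with the matrix factorisation `D² = g` of `∑ aᵢ fᵢ` shows that no power of `θ`
vanishes.
-/

set_option autoImplicit false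
set_option linter.style.haveILetI false

universe u

open CategoryTheory IsLocalRing

noncomputable section

namespace Groth.Agent.CancelLib

/-- A linear matrix factorisation of `∑ aᵢ fᵢ`. -/
theorem exists_factorisation {A' : Type u} [CommRing A'] (m I' : Ideal A') :
    ∀ (r : ℕ) (a f : Fin r → A'), (∀ i, a i ∈ m) → (∀ i, f i ∈ I') →
      ∃ (G : Type u) (_ : AddCommGroup G) (_ : Module A' G) (_ : Module.Free A' G)
        (D : G →ₗ[A'] G) (e : G) (ε : G →ₗ[A'] A'),
        (∀ x, D (D x) = (∑ i, a i * f i) • x) ∧ ε e = 1 ∧ (∀ x, ε (D x) ∈ I') ∧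
          ∀ h : G →ₗ[A'] A', h (D e) ∈ m := by
  intro r
  induction r with
  | zero =>
    intro a f _ _
    exact ⟨A', inferInstance, inferInstance, inferInstance, 0, 1, LinearMap.id, fun x => by simp, rfl,
      fun x => by simp, fun h => by simp⟩
  | succ r ih =>
    intro a f ha hf
    obtain ⟨G, _, _, _, D, e, ε, hD, he, hεD, hDe⟩ := ih (fun i => a i.succ) (fun i => f i.succ)
      (fun i => ha i.succ) (fun i => hf i.succ)
    refine ⟨G × G, inferInstance, inferInstance, inferInstance,
      LinearMap.prod (D ∘ₗ LinearMap.fst A' G G + f 0 • LinearMap.snd A' G G)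
        (a 0 • LinearMap.fst A' G G - D ∘ₗ LinearMap.snd A' G G),
      (e, 0), ε ∘ₗ LinearMap.fst A' G G, ?_, by simpa using he, ?_, ?_⟩
    · rintro ⟨x, y⟩
      rw [Fin.sum_univ_succ]
      change (D (D x + f 0 • y) + f 0 • (a 0 • x - D y), a 0 • (D x + f 0 • y) - D (a 0 • x - D y)) = _
      simp only [map_add, map_sub, map_smul, hD, Prod.smul_mk, Prod.mk.injEq]
      constructor <;> simp only [smul_sub, smul_add, smul_smul, add_smul, mul_comm] <;> abel
    · rintro ⟨x, y⟩
      change ε (D x + f 0 • y) ∈ I'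
      rw [map_add, map_smul, smul_eq_mul]
      exact add_mem (hεD x) (I'.mul_mem_right _ (hf 0))
    · intro h
      have h1 : (LinearMap.prod (D ∘ₗ LinearMap.fst A' G G + f 0 • LinearMap.snd A' G G)
          (a 0 • LinearMap.fst A' G G - D ∘ₗ LinearMap.snd A' G G)) (e, 0) =
          (D e, (0 : G)) + a 0 • ((0 : G), e) := by
        simp [Prod.ext_iff]
      rw [h1, map_add, map_smul, smul_eq_mul]
      exact add_mem (by simpa using hDe (h ∘ₗ LinearMap.inl A' G G)) (m.mul_mem_right _ (ha 0))

section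

variable (A : Type u) [CommRing A]

/-- A stage of a resolution: the kernel to be covered next. -/
structure Stage where
  rk : ℕ
  K : Submodule A (Fin rk → A)

variable {A} [IsNoetherianRing A]

/-- The rank of the next free module. -/
def Stage.nrk (s : Stage A) : ℕ := (Module.Finite.exists_fin' A s.K).choose

/-- A surjection from a free module onto the kernel. -/
def Stage.cover (s : Stage A) : (Fin s.nrk → A) →ₗ[A] s.K :=
  (Module.Finite.exists_fin' A s.K).choose_spec.choose

theorem Stage.cover_surjective (s : Stage A) : Function.Surjective s.cover :=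
  (Module.Finite.exists_fin' A s.K).choose_spec.choose_spec

/-- The next stage. -/
def Stage.next (s : Stage A) : Stage A := ⟨s.nrk, LinearMap.ker s.cover⟩

/-- The stages of a resolution of `A ⧸ I`. -/
def resolve (I : Ideal A) : ℕ → Stage A
  | 0 => ⟨1, Submodule.comap (LinearMap.proj (R := A) (φ := fun _ : Fin 1 => A) 0) I⟩
  | k + 1 => (resolve I k).next

/-- The surjection onto the kernel of the previous differential. -/
def resC (I : Ideal A) (k : ℕ) : (Fin (resolve I (k + 1)).rk → A) →ₗ[A] (resolve I k).K :=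
  (resolve I k).cover

theorem resC_surjective (I : Ideal A) (k : ℕ) : Function.Surjective (resC I k) :=
  Stage.cover_surjective (resolve I k)

theorem ker_resC (I : Ideal A) (k : ℕ) : LinearMap.ker (resC I k) = (resolve I (k + 1)).K := rfl

/-- The differential. -/
def resD (I : Ideal A) (k : ℕ) : (Fin (resolve I (k + 1)).rk → A) →ₗ[A] (Fin (resolve I k).rk → A) :=
  (resolve I k).K.subtype ∘ₗ resC I k

theorem range_resD (I : Ideal A) (k : ℕ) : LinearMap.range (resD I k) = (resolve I k).K := by
  ext v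
  constructor
  · rintro ⟨x, rfl⟩; exact (resC I k x).2
  · intro hv
    obtain ⟨x, hx⟩ := resC_surjective I k ⟨v, hv⟩
    exact ⟨x, congrArg Subtype.val hx⟩

theorem ker_resD (I : Ideal A) (k : ℕ) : LinearMap.ker (resD I k) = (resolve I (k + 1)).K :=
  (LinearMap.ker_comp_of_ker_eq_bot _ (Submodule.ker_subtype _)).trans (ker_resC I k)

theorem hasPDLT_resolve (I : Ideal A) (N : ℕ) (h : HasProjectiveDimensionLT (ModuleCat.of A (A ⧸ I)) (N + 2))
    (k : ℕ) (hk : N ≤ k) : HasProjectiveDimensionLT (ModuleCat.of A (resolve I k).K) 1 := by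
  let q : (Fin 1 → A) →ₗ[A] A ⧸ I := Submodule.mkQ I ∘ₗ LinearMap.proj 0
  have hq : Function.Surjective q :=
    (Submodule.mkQ_surjective I).comp fun x => ⟨fun _ => x, rfl⟩
  have hker : LinearMap.ker q = (resolve I 0).K := by
    ext x
    exact Submodule.Quotient.mk_eq_zero I (x := (x : Fin 1 → A) 0)
  have h0 : HasProjectiveDimensionLT (ModuleCat.of A (resolve I 0).K) (N + 1) := by
    have := (RegLocal.syzygy_iff q hq N).1 h
    exact hasProjectiveDimensionLT_of_iso (LinearEquiv.ofEq _ _ hker).toModuleIso (N + 1)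
  have hstep : ∀ j n : ℕ, HasProjectiveDimensionLT (ModuleCat.of A (resolve I j).K) (n + 1) →
      HasProjectiveDimensionLT (ModuleCat.of A (resolve I (j + 1)).K) (n - 1 + 1) := by
    intro j n hn
    cases n with
    | zero =>
      haveI := hn
      exact (RegLocal.syzygy_iff (resC I j) (resC_surjective I j) 0).1
        (hasProjectiveDimensionLT_of_ge _ 1 2 (by omega))
    | succ n => exact (RegLocal.syzygy_iff (resC I j) (resC_surjective I j) n).1 hn
  have hall : ∀ j, HasProjectiveDimensionLT (ModuleCat.of A (resolve I j).K) (N - j + 1) := by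
    intro j
    induction j with
    | zero => simpa using h0
    | succ j ihj => simpa [Nat.sub_sub] using hstep j _ ihj
  simpa [Nat.sub_eq_zero_of_le hk] using hall k

theorem exists_section_resD (I : Ideal A) (N : ℕ) (h : HasProjectiveDimensionLT (ModuleCat.of A (A ⧸ I)) (N + 2))
    (k : ℕ) (hk : N ≤ k) :
    ∃ s : (Fin (resolve I (k + 1)).rk → A) →ₗ[A] (Fin (resolve I (k + 2)).rk → A),
      ∀ x, resD I (k + 1) (s (resD I (k + 1) x)) = resD I (k + 1) x := by
  haveI : Module.Projective A (resolve I k).K := by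
    have := projective_iff_hasProjectiveDimensionLT_one.2 (hasPDLT_resolve I N h k hk)
    exact (IsProjective.iff_projective _).2 this
  haveI : Module.Projective A (resolve I (k + 1)).K := by
    have := projective_iff_hasProjectiveDimensionLT_one.2 (hasPDLT_resolve I N h (k + 1) (by omega))
    exact (IsProjective.iff_projective _).2 this
  obtain ⟨t, ht⟩ := Module.projective_lifting_property (resC I k) LinearMap.id
    (resC_surjective I k)
  obtain ⟨t', ht'⟩ := Module.projective_lifting_property (resC I (k + 1)) LinearMap.id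
    (resC_surjective I (k + 1))
  let r : (Fin (resolve I (k + 1)).rk → A) →ₗ[A] (resolve I (k + 1)).K :=
    LinearMap.codRestrict _ (LinearMap.id - t ∘ₗ resC I k) fun x => by
      change resC I k (x - t (resC I k x)) = 0
      rw [map_sub, show resC I k (t (resC I k x)) = resC I k x from
        LinearMap.congr_fun ht _, sub_self]
  refine ⟨t' ∘ₗ r, fun x => ?_⟩
  have h1 : r (resD I (k + 1) x) = resC I (k + 1) x := by
    refine Subtype.ext ?_
    have h2 : resC I k (resD I (k + 1) x) = 0 := (resC I (k + 1) x).2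
    change resD I (k + 1) x - t (resC I k (resD I (k + 1) x)) = _
    rw [h2, map_zero, sub_zero]
    rfl
  change (resC I (k + 1) (t' (r (resD I (k + 1) x))) : Fin (resolve I (k + 1)).rk → A) = _
  rw [h1, show resC I (k + 1) (t' (resC I (k + 1) x)) = resC I (k + 1) x from
    LinearMap.congr_fun ht' _]
  rfl

end

section

variable {A' A : Type u} [CommRing A'] [CommRing A] [Algebra A' A]

variable (A' A) in
/-- Componentwise reduction. -/
def redPi (n : ℕ) : (Fin n → A') →ₗ[A'] (Fin n → A) :=
  LinearMap.pi fun i => (Algebra.linearMap A' A) ∘ₗ LinearMap.proj i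

theorem redPi_apply {n : ℕ} (v : Fin n → A') (i : Fin n) : redPi A' A n v i = algebraMap A' A (v i) := rfl

theorem redPi_surjective (hs : Function.Surjective (algebraMap A' A)) (n : ℕ) :
    Function.Surjective (redPi A' A n) := fun v =>
  ⟨fun i => (hs (v i)).choose, funext fun i => (hs (v i)).choose_spec⟩

theorem exists_smul_of_redPi_eq_zero {g : A'} (hker : RingHom.ker (algebraMap A' A) = Ideal.span {g}) {n : ℕ}
    {v : Fin n → A'} (hv : redPi A' A n v = 0) : ∃ w, v = g • w := by
  have : ∀ i, ∃ c, v i = g * c := fun i => by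
    have h1 : v i ∈ Ideal.span {g} := hker ▸ RingHom.mem_ker.2 (congrFun hv i)
    obtain ⟨c, hc⟩ := Ideal.mem_span_singleton'.1 h1
    exact ⟨c, by rw [← hc, mul_comm]⟩
  exact ⟨fun i => (this i).choose, funext fun i => (this i).choose_spec⟩

/-- Lifting a linear map of quotient free modules. -/
theorem exists_lift_redPi (hs : Function.Surjective (algebraMap A' A)) {a b : ℕ}
    (f : (Fin a → A) →ₗ[A] (Fin b → A)) :
    ∃ f' : (Fin a → A') →ₗ[A'] (Fin b → A'), ∀ x, redPi A' A b (f' x) = f (redPi A' A a x) := by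
  obtain ⟨f', hf'⟩ := Module.projective_lifting_property (redPi A' A b)
    (f.restrictScalars A' ∘ₗ redPi A' A a) (redPi_surjective hs b)
  exact ⟨f', fun x => LinearMap.congr_fun hf' x⟩

theorem exists_smul_factor {g : A'} (hker : RingHom.ker (algebraMap A' A) = Ideal.span {g}) {M : Type u}
    [AddCommGroup M] [Module A' M] [Module.Free A' M] {n : ℕ} (f : M →ₗ[A'] (Fin n → A'))
    (hf : ∀ x, redPi A' A n (f x) = 0) : ∃ θ : M →ₗ[A'] (Fin n → A'), ∀ x, f x = g • θ x := by
  let b := Module.Free.chooseBasis A' M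
  choose w hw using fun i => exists_smul_of_redPi_eq_zero hker (hf (b i))
  refine ⟨b.constr ℕ w, fun x => ?_⟩
  have : f = g • b.constr ℕ w := b.ext fun i => by rw [LinearMap.smul_apply, b.constr_basis]; exact hw i
  exact LinearMap.congr_fun this x

theorem apply_mem_of_forall_mem (m : Ideal A') {a b : ℕ} (f : (Fin a → A') →ₗ[A'] (Fin b → A'))
    {v : Fin a → A'} (hv : ∀ i, v i ∈ m) (j : Fin b) : f v j ∈ m := by
  classical
  rw [pi_eq_sum_univ v, map_sum, Finset.sum_apply]
  refine sum_mem fun i _ => ?_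
  rw [map_smul, Pi.smul_apply, smul_eq_mul]
  exact m.mul_mem_right _ (hv i)

end

/-- The socle lemma. -/
theorem false_of_pd {A' A : Type u} [CommRing A'] [IsLocalRing A'] [CommRing A] [IsNoetherianRing A] [Algebra A' A]
    (hs : Function.Surjective (algebraMap A' A)) (g : A') (hker : RingHom.ker (algebraMap A' A) = Ideal.span {g})
    (hg : g ≠ 0) (hsoc : ∀ x ∈ maximalIdeal A', x * g = 0) {r : ℕ} (a f : Fin r → A')
    (ha : ∀ i, a i ∈ maximalIdeal A') (I : Ideal A) (hI : I ≠ ⊤) (hf : ∀ i, algebraMap A' A (f i) ∈ I)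
    (hsum : ∑ i, a i * f i = g) (N : ℕ) (hpd : HasProjectiveDimensionLT (ModuleCat.of A (A ⧸ I)) N) : False := by
  classical
  haveI := hpd
  have hpd' : HasProjectiveDimensionLT (ModuleCat.of A (A ⧸ I)) (N + 2) :=
    hasProjectiveDimensionLT_of_ge _ N (N + 2) (by omega)
  set m := maximalIdeal A'
  have hgz : ∀ {n : ℕ} (v : Fin n → A'), redPi A' A n (g • v) = 0 := fun v => funext fun i => by
    rw [redPi_apply, Pi.smul_apply, smul_eq_mul, map_mul,
      show algebraMap A' A g = 0 from RingHom.mem_ker.1 (hker ▸ Ideal.subset_span rfl), zero_mul]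
    rfl
  have hcancel : ∀ {n : ℕ} (v : Fin n → A'), g • v = 0 → ∀ i, v i ∈ m := fun v hv i => by
    by_contra h
    have h1 : g * v i = 0 := congrFun hv i
    exact hg ((IsUnit.mul_left_eq_zero (notMem_maximalIdeal.1 h)).1 h1)
  have hgm : g ∈ m := hsum ▸ sum_mem fun i _ => m.mul_mem_right _ (ha i)
  let rk : ℕ → ℕ := fun k => (resolve I k).rk
  choose d hd using fun k => exists_lift_redPi (A' := A') hs (resD I k)
  have hdd : ∀ k x, redPi A' A (rk k) ((d k ∘ₗ d (k + 1)) x) = 0 := fun k x => by
    rw [LinearMap.comp_apply, hd, hd]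
    have : resD I (k + 1) (redPi A' A _ x) ∈ LinearMap.ker (resD I k) := by
      rw [ker_resD, ← range_resD]; exact LinearMap.mem_range_self _ _
    exact LinearMap.mem_ker.1 this
  choose θ hθ using fun k => exists_smul_factor hker (d k ∘ₗ d (k + 1)) (hdd k)
  obtain ⟨G, _, _, _, D, e, ε, hD, he, hεD, hDe⟩ := exists_factorisation m (I.comap (algebraMap A' A)) r a f ha hf
  simp only [hsum] at hD
  -- the comparison map
  let S : ℕ → Type u := fun k =>
    {φ : G →ₗ[A'] (Fin (rk k) → A') // ∀ x, redPi A' A (rk k) (φ (D x)) ∈ (resolve I k).K}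
  let φ₀ : S 0 := ⟨LinearMap.pi fun _ => ε, fun x => show algebraMap A' A (ε (D x)) ∈ I from hεD x⟩
  have hstep : ∀ k (φ : S k), ∃ ψ : S (k + 1),
      ∀ x, redPi A' A (rk k) (d k (ψ.1 x)) = redPi A' A (rk k) (φ.1 (D x)) := fun k φ => by
    let b := Module.Free.chooseBasis A' G
    have h1 : ∀ i, ∃ y, redPi A' A (rk k) (d k y) = redPi A' A (rk k) (φ.1 (D (b i))) := fun i => by
      obtain ⟨y, hy⟩ := (range_resD I k).ge (φ.2 (b i))
      obtain ⟨y', rfl⟩ := redPi_surjective (A' := A') hs _ y
      exact ⟨y', by rw [hd, hy]⟩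
    choose y hy using h1
    have h2 : ∀ x, redPi A' A (rk k) (d k (b.constr ℕ y x)) = redPi A' A (rk k) (φ.1 (D x)) := fun x => by
      have : redPi A' A (rk k) ∘ₗ d k ∘ₗ b.constr ℕ y = redPi A' A (rk k) ∘ₗ φ.1 ∘ₗ D :=
        b.ext fun i => by simp only [LinearMap.comp_apply, b.constr_basis]; exact hy i
      exact LinearMap.congr_fun this x
    refine ⟨⟨b.constr ℕ y, fun x => ?_⟩, h2⟩
    rw [← ker_resD, LinearMap.mem_ker, ← hd, h2, hD, map_smul, hgz]
  choose next hnext using hstep
  let Φ : ∀ k, S k := fun k => Nat.rec φ₀ next k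
  let φ : ∀ k, G →ₗ[A'] (Fin (rk k) → A') := fun k => (Φ k).1
  have hφ : ∀ k x, redPi A' A (rk k) (d k (φ (k + 1) x)) = redPi A' A (rk k) (φ k (D x)) :=
    fun k => hnext k (Φ k)
  choose ψ hψ using fun k => exists_smul_factor hker (d k ∘ₗ φ (k + 1) - φ k ∘ₗ D) (fun x => by
    rw [LinearMap.sub_apply, map_sub, LinearMap.comp_apply, LinearMap.comp_apply, hφ, sub_self])
  let Good : ∀ k, (Fin (rk k) → A') → Prop := fun k v => ∃ w, ∀ i, (v - d k w) i ∈ m
  have hdown : ∀ k, Good (k + 2) (φ (k + 2) e) → Good k (φ k e) := by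
    rintro k ⟨w, hw⟩
    have hψ' : ∀ j x, d j (φ (j + 1) x) = φ j (D x) + g • ψ j x := fun j x => by
      rw [← hψ j x, LinearMap.sub_apply, LinearMap.comp_apply, LinearMap.comp_apply]; abel
    have h1 : g • (θ k (φ (k + 2) e) - φ k e - ψ k (D e) - d k (ψ (k + 1) e)) = 0 := by
      rw [smul_sub, smul_sub, smul_sub, ← hθ k, LinearMap.comp_apply, hψ' (k + 1), map_add, hψ' k, hD, map_smul,
        map_smul]
      abel
    have h2 : g • (θ k (d (k + 2) w) - d k (θ (k + 1) w)) = 0 := by
      rw [smul_sub, ← hθ k, ← map_smul (d k), ← hθ (k + 1), LinearMap.comp_apply, LinearMap.comp_apply, sub_self]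
    refine ⟨θ (k + 1) w - ψ (k + 1) e, fun i => ?_⟩
    have h3 := hcancel _ h1 i
    have h4 := hcancel _ h2 i
    have h5 := apply_mem_of_forall_mem m (θ k) hw i
    have h6 : ψ k (D e) i ∈ m := hDe (LinearMap.proj i ∘ₗ ψ k)
    rw [map_sub] at h5
    simp only [map_sub, Pi.sub_apply] at h3 h4 h5 h6 ⊢
    have h7 := add_mem (sub_mem (add_mem h5 h4) h3) (neg_mem h6)
    convert h7 using 1
    ring
  have hiter : ∀ j, Good (2 * j) (φ (2 * j) e) → Good 0 (φ 0 e) := by
    intro j
    induction j with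
    | zero => exact id
    | succ j ih => exact fun h => ih (hdown _ h)
  have htop : ∀ k, N ≤ k → Good (k + 2) (φ (k + 2) e) := fun k hk => by
    obtain ⟨s, hs'⟩ := exists_section_resD I N hpd' k hk
    obtain ⟨s', hsl⟩ := exists_lift_redPi (A' := A') hs s
    let y := φ (k + 1) (D e)
    have hy : ∀ i, y i ∈ m := fun i => hDe (LinearMap.proj i ∘ₗ φ (k + 1))
    have h1 : resD I (k + 1) (redPi A' A (rk (k + 2)) (φ (k + 2) e)) = redPi A' A (rk (k + 1)) y := by
      rw [← hd]; exact hφ (k + 1) e
    have h2 : resD I (k + 1) (redPi A' A (rk (k + 2)) (φ (k + 2) e - s' y)) = 0 := by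
      rw [map_sub, map_sub, hsl, ← h1, hs', sub_self]
    have h3 : redPi A' A (rk (k + 2)) (φ (k + 2) e - s' y) ∈ LinearMap.range (resD I (k + 2)) := by
      rw [range_resD, ← ker_resD]; exact LinearMap.mem_ker.2 h2
    obtain ⟨v, hv⟩ := h3
    obtain ⟨v', rfl⟩ := redPi_surjective (A' := A') hs _ v
    obtain ⟨z, hz⟩ := exists_smul_of_redPi_eq_zero hker
      (v := φ (k + 2) e - s' y - d (k + 2) v') (by rw [map_sub, hd, hv, sub_self])
    refine ⟨v', fun i => ?_⟩
    have h4 : (φ (k + 2) e - d (k + 2) v') = s' y + g • z := by rw [← hz]; abel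
    rw [h4, Pi.add_apply, Pi.smul_apply, smul_eq_mul]
    exact add_mem (apply_mem_of_forall_mem m s' hy i) (m.mul_mem_right _ hgm)
  obtain ⟨w, hw⟩ := hiter (N + 1) (by
    have := htop (2 * N) (by omega)
    rwa [show 2 * (N + 1) = 2 * N + 2 by ring])
  have h1 : φ 0 e - d 0 w = fun i => 1 - d 0 w i := funext fun i => by
    change ε e - _ = _
    rw [he]
  let i₀ : Fin (rk 0) := (⟨0, Nat.one_pos⟩ : Fin 1)
  have h2 : 1 - d 0 w i₀ ∈ m := congrFun h1 i₀ ▸ hw i₀
  have h3 : d 0 w i₀ ∈ m := by
    by_contra h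
    have h4 : resD I 0 (redPi A' A _ w) ∈ (resolve I 0).K := range_resD I 0 ▸ LinearMap.mem_range_self _ _
    rw [← hd] at h4
    have h5 : algebraMap A' A (d 0 w i₀) ∈ I := h4
    exact hI (Ideal.eq_top_of_isUnit_mem _ h5 ((notMem_maximalIdeal.1 h).map (algebraMap A' A)))
  exact (maximalIdeal.isMaximal A').ne_top ((Ideal.eq_top_iff_one _).2 (show (1 : A') ∈ m by simpa using add_mem h2 h3))

end Groth.Agent.CancelLib

end
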