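import Mathlib
import Groth.Agent.CancelLib.Socle
import Groth.Agent.RegIdealLib.Cut

/-!
# Cancellation for regular ideals

If `J ≤ I` in a noetherian local ring, `R/I` has finite projective dimension over `R/J` and `I` is generated by a
regular sequence, then so are `J` and `I/J`.
-/

set_option autoImplicit false
set_option linter.style.haveILetI false

universe u

open CategoryTheory IsLocalRing RingTheory.Sequence

noncomputable section

namespace Groth.Agent.CancelLib

variable {R : Type u} [CommRing R] [IsLocalRing R] [IsNoetherianRing R]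

/-- `J ∩ m I = m J` when `R/I` has finite projective dimension over `R/J`. -/
theorem inf_le_of_pd {J I : Ideal R} (hJI : J ≤ I) (hI : I ≠ ⊤) (N : ℕ)
    (hpd : HasProjectiveDimensionLT (ModuleCat.of (R ⧸ J) ((R ⧸ J) ⧸ I.map (Ideal.Quotient.mk J))) N) :
    J ⊓ maximalIdeal R * I ≤ maximalIdeal R * J := by
  classical
  rintro g ⟨hgJ, hgI⟩
  by_contra hg
  set m := maximalIdeal R
  let 𝒮 : Set (Ideal R) := {L | m * J ≤ L ∧ L ≤ J ∧ g ∉ L}
  obtain ⟨L, ⟨hmL, hLJ, hgL⟩, hmax⟩ := set_has_maximal_iff_noetherian.2 (inferInstance : IsNoetherian R R) 𝒮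
    ⟨m * J, le_rfl, (mul_comm m J).trans_le Ideal.mul_le_left, hg⟩
  have hJL : J = L ⊔ Ideal.span {g} := by
    refine le_antisymm (fun x hx => ?_) (sup_le hLJ ((Ideal.span_singleton_le_iff_mem _).2 hgJ))
    by_cases hxL : x ∈ L
    · exact Ideal.mem_sup_left hxL
    have hlt : L < L ⊔ Ideal.span {x} := lt_of_le_of_ne le_sup_left fun h =>
      hxL (h ▸ Ideal.mem_sup_right (Ideal.mem_span_singleton_self x))
    have hgx : g ∈ L ⊔ Ideal.span {x} := by
      by_contra h
      exact hmax _ ⟨hmL.trans le_sup_left, sup_le hLJ ((Ideal.span_singleton_le_iff_mem _).2 hx), h⟩ hlt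
    obtain ⟨l, hl, z, hz, hlz⟩ := Submodule.mem_sup.1 hgx
    obtain ⟨c, rfl⟩ := Ideal.mem_span_singleton'.1 hz
    by_cases hc : IsUnit c
    · obtain ⟨d, rfl⟩ := hc
      have : x = ((d⁻¹ : Rˣ) : R) * g - ((d⁻¹ : Rˣ) : R) * l := by
        rw [← mul_sub, ← hlz]
        simp
      rw [this]
      exact sub_mem (Ideal.mul_mem_left _ _ (Ideal.mem_sup_right (Ideal.mem_span_singleton_self g)))
        (Ideal.mul_mem_left _ _ (Ideal.mem_sup_left hl))
    · exact absurd (hlz ▸ add_mem hl (hmL (Ideal.mul_mem_mul ((mem_maximalIdeal c).2 hc) hx))) hgL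
  have hLtop : L ≠ ⊤ := fun h => hgL (h ▸ Submodule.mem_top)
  haveI : IsLocalRing (R ⧸ L) :=
    haveI := Ideal.Quotient.nontrivial_iff.2 hLtop
    IsLocalRing.of_surjective' _ Ideal.Quotient.mk_surjective
  let π : R ⧸ L →+* R ⧸ J := Ideal.Quotient.factor hLJ
  letI : Algebra (R ⧸ L) (R ⧸ J) := π.toAlgebra
  have hker : RingHom.ker (algebraMap (R ⧸ L) (R ⧸ J)) = Ideal.span {Ideal.Quotient.mk L g} := by
    change RingHom.ker (Ideal.Quotient.factor hLJ) = _
    rw [Ideal.Quotient.factor_ker hLJ, hJL, Ideal.map_sup, Ideal.map_quotient_self, bot_sup_eq, Ideal.map_span,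
      Set.image_singleton]
  have hmI : g ∈ Submodule.span R (Set.image2 (fun a b => a * b) (m : Set R) (I : Set R)) := by
    have : (m * I : Ideal R) = Submodule.span R (Set.image2 (fun a b => a * b) (m : Set R) (I : Set R)) := by
      conv_lhs => rw [← Ideal.span_eq m, ← Ideal.span_eq I, Ideal.span_mul_span']
      rfl
    exact this ▸ hgI
  obtain ⟨r, c, v, hv⟩ := Submodule.mem_span_set'.1 hmI
  choose p hp q hq hpq using fun i : Fin r => Set.mem_image2.1 (v i).2
  refine false_of_pd (A' := R ⧸ L) (A := R ⧸ J) (Ideal.Quotient.factor_surjective hLJ) (Ideal.Quotient.mk L g)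
    hker (fun h => hgL (Ideal.Quotient.eq_zero_iff_mem.1 h)) (fun x hx => ?_)
    (fun i => Ideal.Quotient.mk L (c i * p i)) (fun i => Ideal.Quotient.mk L (q i)) (fun i => ?_)
    (I.map (Ideal.Quotient.mk J)) ?_ (fun i => Ideal.mem_map_of_mem _ (hq i)) ?_ N hpd
  · obtain ⟨x, rfl⟩ := Ideal.Quotient.mk_surjective x
    rw [← map_mul, Ideal.Quotient.eq_zero_iff_mem]
    refine hmL (Ideal.mul_mem_mul ((mem_maximalIdeal x).2 fun hu => (mem_maximalIdeal _).1 hx (hu.map _)) hgJ)
  · exact (mem_maximalIdeal _).2 fun hu =>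
      (mem_maximalIdeal (c i * p i)).1 (m.mul_mem_left _ (hp i))
        ((@isUnit_map_iff _ _ _ _ _ _ _ (Ideal.Quotient.mk L) (IsLocalHom.of_surjective _ Ideal.Quotient.mk_surjective) _).1 hu)
  · intro h
    refine hI ?_
    rw [← Ideal.comap_top (f := Ideal.Quotient.mk J), ← h, Ideal.comap_map_mk hJI]
  · rw [← hv, map_sum]
    refine Finset.sum_congr rfl fun i _ => ?_
    rw [← map_mul, smul_eq_mul, ← hpq i, mul_assoc]

theorem isRegularIdeal_bot [Nontrivial R] : CInt.IsRegularIdeal (⊥ : Ideal R) :=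
  ⟨[], ⟨IsWeaklyRegular.nil R R, by simp⟩, Ideal.ofList_nil⟩

/-- Splitting a regular ideal along a subideal `J` with `J ∩ m K = m J`. -/
theorem isRegularIdeal_split : ∀ (k : ℕ) {R : Type u} [CommRing R] [IsLocalRing R] [IsNoetherianRing R]
    (b : Fin k → R) {J K : Ideal R}, J = Ideal.span (Set.range b) → J ≤ K → K ≤ maximalIdeal R →
    CInt.IsRegularIdeal K → J ⊓ maximalIdeal R * K ≤ maximalIdeal R * J →
    CInt.IsRegularIdeal J ∧ CInt.IsRegularIdeal (K.map (Ideal.Quotient.mk J)) := by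
  intro k
  induction k with
  | zero =>
    intro R _ _ _ b J K hJ _ _ hK _
    have hJ0 : J = ⊥ := by rw [hJ, Set.range_eq_empty]; exact Ideal.span_empty
    subst hJ0
    refine ⟨isRegularIdeal_bot, ?_⟩
    exact RegIdealLib.isRegularIdeal_of_ringEquiv (RingEquiv.quotientBot R).symm hK
  | succ k ih =>
    intro R _ _ _ b J K hJ hJK hKm hK hinf
    by_cases hall : ∀ i, b i ∈ maximalIdeal R * J
    · have hle : J ≤ maximalIdeal R * J := hJ.trans_le (Ideal.span_le.2 (by rintro _ ⟨i, rfl⟩; exact hall i))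
      have hJ0 : J = ⊥ := Submodule.eq_bot_of_le_smul_of_le_jacobson_bot _ J (IsNoetherian.noetherian J) hle
        (maximalIdeal_le_jacobson ⊥)
      subst hJ0
      exact ⟨isRegularIdeal_bot, RegIdealLib.isRegularIdeal_of_ringEquiv (RingEquiv.quotientBot R).symm hK⟩
    push Not at hall
    obtain ⟨j, hj⟩ := hall
    set x := b j
    have hxJ : x ∈ J := hJ ▸ Ideal.subset_span ⟨j, rfl⟩
    have hxK : x ∉ maximalIdeal R * K := fun h => hj (hinf ⟨hxJ, h⟩)
    have hquot := RegIdealLib.isRegularIdeal_map_quot_singleton hKm hK (hJK hxJ) hxK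
    have hX : Ideal.span {x} ≤ K := (Ideal.span_singleton_le_iff_mem _).2 (hJK hxJ)
    have hXJ : Ideal.span {x} ≤ J := (Ideal.span_singleton_le_iff_mem _).2 hxJ
    have hreg_x : CInt.IsRegularIdeal (Ideal.span {x}) := RegIdealLib.isRegularIdeal_of_quotient hX hKm hK hquot
    have htop : Ideal.span {x} ≠ ⊤ := ne_top_of_le_ne_top (maximalIdeal.isMaximal R).ne_top (hX.trans hKm)
    haveI : IsLocalRing (R ⧸ Ideal.span {x}) :=
      haveI := Ideal.Quotient.nontrivial_iff.2 htop
      IsLocalRing.of_surjective' _ Ideal.Quotient.mk_surjective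
    set π := Ideal.Quotient.mk (Ideal.span {x})
    have hmax : maximalIdeal (R ⧸ Ideal.span {x}) = (maximalIdeal R).map π := RegLocal.maximalIdeal_quot htop
    have hgen : J.map π = Ideal.span (Set.range fun i => π (b (j.succAbove i))) := by
      rw [hJ, Ideal.map_span]
      refine le_antisymm (Ideal.span_le.2 ?_) (Ideal.span_mono ?_)
      · rintro _ ⟨_, ⟨i, rfl⟩, rfl⟩
        rcases eq_or_ne i j with rfl | hi
        · rw [show π (b i) = 0 from Ideal.Quotient.eq_zero_iff_mem.2 (Ideal.mem_span_singleton_self x)]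
          exact zero_mem _
        · obtain ⟨l, rfl⟩ := Fin.exists_succAbove_eq hi
          exact Ideal.subset_span ⟨l, rfl⟩
      · rintro _ ⟨l, rfl⟩
        exact ⟨_, ⟨_, rfl⟩, rfl⟩
    have hinf' : J.map π ⊓ maximalIdeal _ * K.map π ≤ maximalIdeal _ * J.map π := by
      rintro z ⟨hz1, hz2⟩
      rw [hmax, ← Ideal.map_mul] at hz2 ⊢
      obtain ⟨a, ha, rfl⟩ := (Ideal.mem_map_iff_of_surjective π Ideal.Quotient.mk_surjective).1 hz1
      obtain ⟨w, hw, hwa⟩ := (Ideal.mem_map_iff_of_surjective π Ideal.Quotient.mk_surjective).1 hz2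
      have h1 : w - a ∈ J := hXJ (Ideal.Quotient.eq.1 hwa)
      have h2 : w ∈ J := by simpa using add_mem h1 ha
      exact hwa ▸ Ideal.mem_map_of_mem π (hinf ⟨h2, hw⟩)
    obtain ⟨h1, h2⟩ := ih (fun i => π (b (j.succAbove i))) hgen (Ideal.map_mono hJK)
      (hmax ▸ Ideal.map_mono hKm) hquot hinf'
    refine ⟨RegIdealLib.isRegularIdeal_of_extension hXJ (hJK.trans hKm) hreg_x h1, ?_⟩
    let E := DoubleQuot.quotQuotEquivQuotOfLE hXJ
    have h3 := RegIdealLib.isRegularIdeal_of_ringEquiv E h2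
    convert h3 using 1
    rw [Ideal.map_map, Ideal.map_map]
    congr 1

/-- Cancellation: if `K` is regular and `R/K` has finite projective dimension over `R/J`, `J ≤ K`, then `J` and
`K/J` are regular. -/
theorem isRegularIdeal_cancel {J K : Ideal R} (hJK : J ≤ K) (hKm : K ≤ maximalIdeal R) (hK : CInt.IsRegularIdeal K)
    (N : ℕ) (hpd : HasProjectiveDimensionLT (ModuleCat.of (R ⧸ J) ((R ⧸ J) ⧸ K.map (Ideal.Quotient.mk J))) N) :
    CInt.IsRegularIdeal J ∧ CInt.IsRegularIdeal (K.map (Ideal.Quotient.mk J)) := by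
  obtain ⟨k, b, hb⟩ := Submodule.fg_iff_exists_fin_generating_family.1 (IsNoetherian.noetherian J)
  exact isRegularIdeal_split k b hb.symm hJK hKm hK
    (inf_le_of_pd hJK (ne_top_of_le_ne_top (maximalIdeal.isMaximal R).ne_top hKm) N hpd)

end Groth.Agent.CancelLib

end
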